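import Cfsg.Agent.DS.Sp.F24Defs
import Cfsg.Agent.DS.Sp.F24ATools
import Cfsg.Agent.DS.Sp.Tools
import Cfsg.Agent.CTwoTab.FiTF
import Cfsg.Agent.H187.FiOdd.Cent
import Cfsg.Agent.H841.TwG
import Cfsg.Agent.H843.Fi24N

/-!
# S5881, S5882, the box `BoxFi24`: the pieces `BoxA`, `BoxB`, `BoxAb` (helper78)
-/

set_option autoImplicit false
set_option linter.style.haveILetI false

namespace Cfsg.Agent.DS.Sp.F24

open Subgroup Cfsg
open Cfsg.Spor (Fi24)
open Cfsg.Agent.R08.FiTwentyFour (L finite_Fi24)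
open Cfsg.Agent.H843.Fi24N (card_Fi24)

theorem card_F : Nat.card Fi24 = 2 ^ 22 * 3 ^ 16 * 5 ^ 2 * 7 ^ 3 * 11 * 13 * 17 * 23 * 29 := by
  rw [card_Fi24]; norm_num

theorem El.pgroup {E : Subgroup Fi24} {r : ℕ} (h : El E r) : IsPGroup r E := by
  intro x
  refine ⟨1, Subtype.ext ?_⟩
  rw [pow_one]
  exact h.pow x x.2

theorem El.orderOf {E : Subgroup Fi24} {r : ℕ} (h : El E r) {x : Fi24} (hx : x ∈ E) (h1 : x ≠ 1) :
    orderOf x = r := by
  haveI : Fact r.Prime := ⟨h.prime⟩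
  exact orderOf_eq_prime (h.pow x hx) h1

/-- the orders of the `r`-subgroups -/
theorem card_cases {E : Subgroup Fi24} {r : ℕ} (hr : r.Prime) (hE : IsPGroup r E) (h1 : E ≠ ⊥) :
    (r = 2 ∧ ∃ k, 0 < k ∧ k ≤ 22 ∧ Nat.card E = 2 ^ k) ∨ (r = 3 ∧ ∃ k, 0 < k ∧ k ≤ 16 ∧ Nat.card E = 3 ^ k) ∨
      (5 ≤ r ∧ Nat.card E ∈ [5, 25, 7, 49, 343, 11, 13, 17, 23, 29]) := by
  haveI := finite_Fi24
  haveI : Fact r.Prime := ⟨hr⟩
  obtain ⟨k, hk⟩ := IsPGroup.iff_card.1 hE
  have hk0 : k ≠ 0 := by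
    rintro rfl
    rw [pow_zero, card_eq_one] at hk
    exact h1 hk
  have hd : r ^ k ∣ 2510411418381323442585600 := by
    rw [← hk, ← card_Fi24]
    exact card_subgroup_dvd_card E
  have hr1 : r ∣ 2 ^ 22 * 3 ^ 16 * 5 ^ 2 * 7 ^ 3 * 11 * 13 * 17 * 23 * 29 := by
    refine (dvd_pow_self r hk0).trans (hd.trans ?_)
    norm_num
  simp only [hr.dvd_mul] at hr1
  have key : ∀ {q n : ℕ}, q.Prime → r ∣ q ^ n → r = q :=
    fun hq h => (Nat.prime_dvd_prime_iff_eq hr hq).1 (hr.dvd_of_dvd_pow h)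
  have key' : ∀ {q : ℕ}, q.Prime → r ∣ q → r = q := fun hq h => (Nat.prime_dvd_prime_iff_eq hr hq).1 h
  have bound : ∀ n : ℕ, ¬ r ^ (n + 1) ∣ 2510411418381323442585600 → k ≤ n := by
    intro n hn
    by_contra hlt
    exact hn ((pow_dvd_pow r (by omega)).trans hd)
  rw [hk]
  rcases hr1 with (((((((h | h) | h) | h) | h) | h) | h) | h) | h
  · obtain rfl := key (by norm_num) h
    exact Or.inl ⟨rfl, k, by omega, bound 22 (by norm_num), rfl⟩
  · obtain rfl := key (by norm_num) h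
    exact Or.inr (Or.inl ⟨rfl, k, by omega, bound 16 (by norm_num), rfl⟩)
  · obtain rfl := key (by norm_num) h
    have := bound 2 (by norm_num)
    refine Or.inr (Or.inr ⟨by norm_num, ?_⟩)
    interval_cases k
    · exact absurd rfl hk0
    all_goals decide
  · obtain rfl := key (by norm_num) h
    have := bound 3 (by norm_num)
    refine Or.inr (Or.inr ⟨by norm_num, ?_⟩)
    interval_cases k
    · exact absurd rfl hk0
    all_goals decide
  all_goals
    obtain rfl := key' (by norm_num) h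
    have := bound 1 (by norm_num)
    obtain rfl : k = 1 := by omega
    exact Or.inr (Or.inr ⟨by norm_num, by decide⟩)

/-- elements of odd order lie in the simple group -/
theorem mem_comm_of_odd {x : Fi24} {n : ℕ} (hn : Odd n) (hx : x ^ n = 1) : x ∈ commutator Fi24 := by
  obtain ⟨k, rfl⟩ := hn
  have h1 : x * x ∈ commutator Fi24 := mul_self_mem_of_index_two R08.FiTwentyFour.index_commutator x
  have h2 : x = ((x * x) ^ k)⁻¹ := by
    rw [eq_inv_iff_mul_eq_one, ← pow_two, ← pow_mul, ← pow_succ', hx]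
  rw [h2]
  exact inv_mem (pow_mem h1 k)

/-- the `3`-subgroups centralizing an involution of the simple group -/
theorem three_cent_invol {t : Fi24} (ht : t ∈ commutator Fi24) (ho : orderOf t = 2) {U : Subgroup Fi24}
    (hU : IsPGroup 3 U) (hc : U ≤ centralizer ({t} : Set Fi24)) : ¬ 3 ^ 10 ∣ Nat.card U := by
  haveI := finite_Fi24
  intro hd
  rcases CTwoTab.FiTF.classes ⟨t, ht⟩ (by rw [Subgroup.orderOf_mk]; exact ho) with ⟨a, b, P, h⟩ | ⟨g, h⟩
  · have h' : t = a * b := h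
    have h1 : U ≤ R08.FiTwentyFour.Cab a b := by
      intro x hx
      obtain ⟨j, hj⟩ := hU ⟨x, hx⟩
      have hj' : x ^ 3 ^ j = 1 := congrArg Subtype.val hj
      have hodd : Odd (3 ^ j) := Odd.pow (by decide)
      have h2 : x * x ∈ R08.FiTwentyFour.Cab a b := by
        rw [R08.FiTwentyFour.mem_Cab]
        refine ⟨R08.FiTwentyFour.mem_commutator_iff.1
          (mul_self_mem_of_index_two R08.FiTwentyFour.index_commutator x), ?_⟩
        have e : ∀ u : Fi24, (x * x) * u * (x * x)⁻¹ = x * (x * u * x⁻¹) * x⁻¹ := by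
          intro u
          group
        rw [← mul_inv_eq_iff_eq_mul, ← mul_inv_eq_iff_eq_mul, e, e]
        have h3 : x * (a * b) * x⁻¹ = a * b := by
          rw [mul_inv_eq_iff_eq_mul, ← h']
          exact mem_centralizer_singleton_iff.1 (hc hx)
        rcases OddHalf.D4.Spor.FiTF.pair_fix P.ha P.hb P.ab P.ne h3 with ⟨h1, h2⟩ | ⟨h1, h2⟩
        · rw [h1, h2, h1, h2]; exact ⟨rfl, rfl⟩
        · rw [h1, h2, h1]; exact ⟨rfl, rfl⟩
      obtain ⟨k, hk⟩ := hodd
      have h3 : x = ((x * x) ^ k)⁻¹ := by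
        rw [eq_inv_iff_mul_eq_one, ← pow_two, ← pow_mul, ← pow_succ', ← hk, hj']
      rw [h3]
      exact inv_mem (pow_mem h2 k)
    have h2 := hd.trans (card_dvd_of_le h1)
    rw [OddHalf.D4.Spor.FiTF.card_Cab P] at h2
    norm_num at h2
  · have h' : t = g * KFacts.FiTF.Defs.z * (g : Fi24)⁻¹ := congrArg Subtype.val h
    have h1 : U.map (MulAut.conj (g : Fi24)⁻¹).toMonoidHom ≤ centralizer ({KFacts.FiTF.Defs.z} : Set Fi24) := by
      rintro _ ⟨x, hx, rfl⟩
      rw [mem_centralizer_singleton_iff]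
      have h2 := mem_centralizer_singleton_iff.1 (hc hx)
      rw [h'] at h2
      change (g : Fi24)⁻¹ * x * (g : Fi24)⁻¹⁻¹ * _ = _ * ((g : Fi24)⁻¹ * x * (g : Fi24)⁻¹⁻¹)
      calc (g : Fi24)⁻¹ * x * (g : Fi24)⁻¹⁻¹ * KFacts.FiTF.Defs.z
          = (g : Fi24)⁻¹ * (x * (g * KFacts.FiTF.Defs.z * (g : Fi24)⁻¹)) * g := by group
        _ = (g : Fi24)⁻¹ * ((g * KFacts.FiTF.Defs.z * (g : Fi24)⁻¹) * x) * g := by rw [h2]
        _ = _ := by group
    have h2 := card_dvd_of_le h1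
    rw [card_map_of_injective (MulAut.conj (g : Fi24)⁻¹).injective, KFacts.FiTF.Order.card] at h2
    have h3 := hd.trans h2
    norm_num at h3

theorem boxA : BoxA := by
  intro E r hE hr3 hd
  haveI := finite_Fi24
  haveI : Fact (Nat.Prime 3) := ⟨Nat.prime_three⟩
  obtain ⟨K, hK⟩ := Sylow.exists_subgroup_card_pow_prime 3 hd
  set T := K.map (normalizer (E : Set Fi24)).subtype with hT
  have hTc : Nat.card T = 3 ^ 13 := by rw [hT, card_map_of_injective (subtype_injective _), hK]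
  have hT3 : IsPGroup 3 T := IsPGroup.of_card hTc
  have hTN : T ≤ normalizer (E : Set Fi24) := map_subtype_le K
  have hbig : ∀ v : ℕ, v ≤ 13 → 5 ≤ r → ¬ 3 ^ (v + 1) ∣ Nat.card E - 1 →
      Nat.card E * 3 ^ (13 - v) ≤ 1814400 := by
    intro v hv h5 h
    obtain ⟨t, ht, ht1, htc⟩ := exists_cent_card hT3 hTN h
    have h1 : 3 ^ (13 - v) ∣ Nat.card (T ⊓ centralizer ({t} : Set Fi24) : Subgroup Fi24) := by
      rw [hTc, show 13 = v + (13 - v) by omega, pow_add] at htc
      exact Nat.dvd_of_mul_dvd_mul_left (by positivity) htc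
    have h2 : 3 ^ (13 - v) ∣ Nat.card (centralizer ({t} : Set Fi24)) := h1.trans (card_dvd_of_le inf_le_right)
    have h3 : Nat.card E ∣ Nat.card (centralizer ({t} : Set Fi24)) :=
      card_dvd_of_le fun x hx => mem_centralizer_singleton_iff.2 (hE.comm x hx t ht)
    have h4 : (Nat.card E).Coprime (3 ^ (13 - v)) := by
      haveI : Fact r.Prime := ⟨hE.prime⟩
      obtain ⟨k, hk⟩ := IsPGroup.iff_card.1 hE.pgroup
      rw [hk]
      exact Nat.Coprime.pow _ _ ((Nat.coprime_primes hE.prime Nat.prime_three).2 hr3)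
    exact (Nat.le_of_dvd Nat.card_pos (h4.mul_dvd_of_dvd_of_dvd h3 h2)).trans
      (H187.FiOdd.card_cent_le hE.prime h5 (hE.orderOf ht ht1))
  rcases card_cases hE.prime hE.pgroup hE.ne_bot with ⟨rfl, k, hk0, hk, hc⟩ | ⟨h, -⟩ | ⟨h5, hc⟩
  · obtain ⟨t, ht, ht1, htc⟩ := exists_cent_card (k := 3) hT3 hTN (by
      rw [hc]
      interval_cases k <;> norm_num)
    refine three_cent_invol (hE.le ht) (hE.orderOf ht ht1) (hT3.to_le inf_le_left) inf_le_right ?_
    rw [hTc, show 13 = 3 + 10 by rfl, pow_add] at htc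
    exact Nat.dvd_of_mul_dvd_mul_left (by positivity) htc
  · exact hr3 h
  · have h1 := hbig 1 (by norm_num) h5
    have h2 := hbig 2 (by norm_num) h5
    simp only [List.mem_cons, List.not_mem_nil, or_false] at hc
    rcases hc with h | h | h | h | h | h | h | h | h | h <;> rw [h] at h1 h2 <;>
      first | (norm_num at h1; done) | norm_num at h2

/-- `R = 2 ^ (1 + 12)` normalizes no non-trivial subgroup of odd prime power order -/
theorem not_R_le {E : Subgroup Fi24} {r : ℕ} (hr : r.Prime) (hr2 : r ≠ 2) (hE : IsPGroup r E) (h1 : E ≠ ⊥)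
    (hR : KFacts.FiTF.Defs.R ≤ normalizer (E : Set Fi24)) : False := by
  haveI := finite_Fi24
  haveI : Fact (Nat.Prime 2) := ⟨Nat.prime_two⟩
  haveI : Fact r.Prime := ⟨hr⟩
  have fr := KFacts.FiTF.frame
  generalize KFacts.FiTF.Defs.R = R at fr hR
  generalize KFacts.FiTF.Defs.z = z at fr
  have hR2 : IsPGroup 2 R := IsPGroup.of_card (n := 13) (by rw [fr.cardR]; norm_num)
  have hdis : Disjoint E R := IsPGroup.disjoint_of_ne r 2 hr2 E R hE hR2
  have hz : ∀ x ∈ E, x * z = z * x → x = 1 := by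
    intro x hx hxz
    have h2 : ∀ s ∈ R, x * s = s * x := by
      intro s hs
      have h3 : x * s * x⁻¹ * s⁻¹ ∈ R := mul_mem (fr.norm x hxz s hs) (inv_mem hs)
      have h4 : x * s * x⁻¹ * s⁻¹ ∈ E := by
        have h5 := (mem_normalizer_iff.1 (hR hs) x⁻¹).1 (inv_mem hx)
        have h6 := mul_mem hx h5
        rwa [← mul_assoc, ← mul_assoc] at h6
      have h5 := disjoint_def.1 hdis h4 h3
      rwa [mul_inv_eq_one, mul_inv_eq_iff_eq_mul] at h5
    rcases fr.cent x h2 with h | h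
    · exact h
    · exact disjoint_def.1 hdis hx (h ▸ fr.zR)
  have h128 : ¬ 2 ^ (6 + 1) ∣ Nat.card E - 1 := by
    rcases card_cases hr hE h1 with ⟨h, -⟩ | ⟨-, k, hk0, hk, hc⟩ | ⟨-, hc⟩
    · exact absurd h hr2
    · rw [hc]
      interval_cases k <;> norm_num
    · simp only [List.mem_cons, List.not_mem_nil, or_false] at hc
      rcases hc with h | h | h | h | h | h | h | h | h | h <;> rw [h] <;> norm_num
  obtain ⟨t, ht, ht1, htc⟩ := exists_cent_card hR2 hR h128
  set A := R ⊓ centralizer ({t} : Set Fi24) with hA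
  have hzA : z ∉ A := fun h => ht1 (hz t ht (mem_centralizer_singleton_iff.1 h.2).symm)
  have hab : ∀ x ∈ A, ∀ y ∈ A, x * y = y * x := by
    intro x hx y hy
    rcases fr.com x hx.1 y hy.1 with h | h
    · exact h
    · exfalso
      apply hzA
      have h2 : z = x * y * (y * x)⁻¹ := by rw [h]; group
      rw [h2]
      exact mul_mem (mul_mem hx hy) (inv_mem (mul_mem hy hx))
  have hzo : orderOf z = 2 := orderOf_eq_prime (by rw [pow_two, fr.zz]) fr.z1
  have h2 := card_sq_le (Z := zpowers z) (Q := R) (A := A) Nat.prime_two (by rw [Nat.card_zpowers, hzo])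
    (by
      intro x hx y hy
      rcases fr.com x hx y hy with h | h
      · rw [show x * y * x⁻¹ * y⁻¹ = 1 by rw [h]; group]
        exact one_mem _
      · rw [show x * y * x⁻¹ * y⁻¹ = z by rw [h]; group]
        exact mem_zpowers z)
    (by
      rintro x hx _ ⟨k, rfl⟩
      exact (Commute.zpow_right (fr.Ez x (fr.RE hx)) k).eq) inf_le_left hab
  have h3 : A ⊓ centralizer (R : Set Fi24) = ⊥ := by
    rw [eq_bot_iff]
    intro x hx
    rcases fr.cent x (fun s hs => (mem_centralizer_iff.1 hx.2 s hs).symm) with h | h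
    · exact h
    · exact absurd (h ▸ hx.1) hzA
  rw [h3, card_bot, fr.cardR] at h2
  rw [fr.cardR] at htc
  have h4 := Nat.le_of_dvd (Nat.mul_pos (by norm_num) Nat.card_pos) htc
  nlinarith

/-- a subgroup with the full `2`-part normalizes no non-trivial subgroup of odd prime power order -/
theorem not_two_dvd {E : Subgroup Fi24} {r : ℕ} (hr : r.Prime) (hr2 : r ≠ 2) (hE : IsPGroup r E) (h1 : E ≠ ⊥) :
    ¬ 2 ^ 22 ∣ Nat.card (normalizer (E : Set Fi24)) := by
  intro hd
  haveI := finite_Fi24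
  haveI : Fact (Nat.Prime 2) := ⟨Nat.prime_two⟩
  have hR2 : IsPGroup 2 KFacts.FiTF.Defs.R :=
    IsPGroup.of_card (n := 13) (by rw [KFacts.FiTF.frame.cardR]; norm_num)
  obtain ⟨g, hg⟩ := exists_conj_le _ hd (by rw [card_Fi24]; norm_num) hR2
  refine not_R_le (E := E.map (MulAut.conj g⁻¹).toMonoidHom) hr hr2 (hE.map _) ?_ ?_
  · rwa [Ne, map_eq_bot_iff_of_injective _ (MulAut.conj g⁻¹).injective]
  · intro s hs
    have h2 := hg ⟨s, hs, rfl⟩
    have h3 : (MulAut.conj g⁻¹).toMonoidHom ((MulAut.conj g).toMonoidHom s) = s := by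
      change g⁻¹ * (g * s * g⁻¹) * g⁻¹⁻¹ = s
      group
    rw [← h3]
    exact le_normalizer_map _ ⟨_, h2, rfl⟩

theorem boxB : BoxB := fun _ _ hE hr2 => not_two_dvd hE.prime hr2 hE.pgroup hE.ne_bot

theorem card_sylow_three (P : Sylow 3 Fi24) : Nat.card (P : Subgroup Fi24) = 3 ^ 16 := by
  haveI := finite_Fi24
  haveI : Fact (Nat.Prime 3) := ⟨Nat.prime_three⟩
  obtain ⟨K, hK⟩ := Sylow.exists_subgroup_card_pow_prime (G := Fi24) 3 (n := 16) (by rw [card_Fi24]; norm_num)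
  obtain ⟨Q, hQ⟩ := (IsPGroup.of_card hK).exists_le_sylow
  obtain ⟨n, hn⟩ := IsPGroup.iff_card.1 P.isPGroup'
  have h1 : 3 ^ 16 ∣ 3 ^ n := by
    rw [← hn, ← hK, Nat.card_congr (Sylow.equiv P Q).toEquiv]
    exact card_dvd_of_le hQ
  have h2 : 3 ^ n ∣ 2510411418381323442585600 := by
    rw [← hn, ← card_Fi24]
    exact card_subgroup_dvd_card _
  rw [hn]
  congr 1
  have h3 := (Nat.pow_dvd_pow_iff_le_right (by norm_num)).1 h1
  by_contra hne
  have h4 : 3 ^ 17 ∣ 2510411418381323442585600 := (pow_dvd_pow 3 (by omega)).trans h2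
  norm_num at h4

/-- every Sylow `3`-subgroup contains an extraspecial normal subgroup of order `3 ^ 11` -/
theorem exists_es (P : Sylow 3 Fi24) : ∃ Q : Subgroup Fi24, Q ≤ P ∧ IsExtraspecial 3 Q ∧ Nat.card Q = 3 ^ 11 := by
  haveI := finite_Fi24
  haveI : Fact (Nat.Prime 3) := ⟨Nat.prime_three⟩
  haveI : Nontrivial (P : Subgroup Fi24) := by
    rw [← Finite.one_lt_card_iff_nontrivial, card_sylow_three]
    norm_num
  haveI := P.isPGroup'.center_nontrivial
  have h1 : 3 ∣ Nat.card (center (P : Subgroup Fi24)) := by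
    obtain ⟨n, hn0, hn⟩ := (P.isPGroup'.to_subgroup (center _)).nontrivial_iff_card.1 inferInstance
    rw [hn]
    exact dvd_pow_self 3 hn0.ne'
  obtain ⟨x, hx⟩ := exists_prime_orderOf_dvd_card' 3 h1
  set y : Fi24 := ((x : (P : Subgroup Fi24)) : Fi24) with hy
  have hyo : orderOf y = 3 := by rw [hy, orderOf_coe, orderOf_coe, hx]
  obtain ⟨h2, h3, -, h4, h5, -, h6, -⟩ := H841.Tri.main (MulEquiv.refl Fi24) (D := L) (by simp) (zpowers y)
    (by rw [Nat.card_zpowers, hyo]) ⟨P, zpowers_le.2 ⟨x, x.2, rfl⟩⟩ _ _ _ rfl rfl rfl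
  generalize (generalizedFittingSubgroup (normalizer ((zpowers y : Subgroup Fi24) : Set Fi24))).map
    (normalizer ((zpowers y : Subgroup Fi24) : Set Fi24)).subtype = Q at h2 h3 h4 h6
  refine ⟨Q, ?_, h2, h3⟩
  have h7 : (P : Subgroup Fi24) ≤ normalizer (Q : Set Fi24) := by
    refine le_trans ?_ ((normal_subgroupOf_iff_le_normalizer (h4.trans h5)).1 h6)
    refine le_trans ?_ (centralizer_le_normalizer _)
    intro g hg
    rw [mem_centralizer_iff]
    rintro _ ⟨k, rfl⟩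
    have h8 : g * y = y * g := congrArg Subtype.val (mem_center_iff.1 x.2 ⟨g, hg⟩)
    exact (Commute.zpow_left (Commute.symm h8) k).eq
  have h8 := P.isPGroup'.to_sup_of_normal_right' h2.1.1 h7
  rw [← P.is_maximal' h8 le_sup_left]
  exact le_sup_right

/-- abelian `3`-subgroups have order at most `3 ^ 11` -/
theorem card_abelian_three {A : Subgroup Fi24} (hA : IsPGroup 3 A) (hab : ∀ x ∈ A, ∀ y ∈ A, x * y = y * x) :
    Nat.card A ≤ 3 ^ 11 := by
  haveI := finite_Fi24
  haveI : Fact (Nat.Prime 3) := ⟨Nat.prime_three⟩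
  obtain ⟨P, hP⟩ := hA.exists_le_sylow
  obtain ⟨Q, hQ, h1, h2⟩ := exists_es P
  have h3 : Nat.card (A ⊓ Q : Subgroup Fi24) ≤ 3 ^ (5 + 1) :=
    card_le_of_es Nat.prime_three h1.1.2.2 h1.2 h2 inf_le_right fun x hx y hy => hab x hx.1 y hy.1
  have h4 : Nat.card Q * Q.relIndex P = Nat.card (P : Subgroup Fi24) := by
    rw [← Nat.card_congr (subgroupOfEquivOfLe hQ).toEquiv]
    exact card_mul_index _
  rw [h2, card_sylow_three] at h4
  have h5 : Q.relIndex P = 3 ^ 5 := by omega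
  have h6 : Q.relIndex A ≤ 3 ^ 5 := by
    rw [← h5]
    exact relIndex_le_of_le_right hP (by rw [h5]; norm_num)
  have h7 : Nat.card (A ⊓ Q : Subgroup Fi24) * Q.relIndex A = Nat.card A := by
    rw [← inf_relIndex_left, ← Nat.card_congr (subgroupOfEquivOfLe (inf_le_left : A ⊓ Q ≤ A)).toEquiv]
    exact card_mul_index _
  rw [← h7]
  exact (Nat.mul_le_mul h3 h6).trans (by norm_num)

theorem boxAb : BoxAb := fun _ hA hab => (card_abelian_three hA hab).trans (by norm_num)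

end Cfsg.Agent.DS.Sp.F24
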