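import Cfsg.Agent.DS.Sp.F24SA
import Cfsg.Agent.DS.Sp.F24ATools
import Cfsg.Agent.H48.OreFi.WFour
import Cfsg.Agent.H48.OreFi.NineA
import Cfsg.Agent.H49.Four.NineSix
import Cfsg.Agent.H840.M500
import Cfsg.Agent.H841.TwG
import Cfsg.Agent.H841.SevU

/-!
# S5881, S5882, the box `BoxFi24`: the five classes of subgroups of order three (helper19)
-/

set_option autoImplicit false
set_option maxHeartbeats 400000
set_option maxRecDepth 100000

namespace Cfsg.Agent.DS.Sp.F24S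

open Subgroup Cfsg
open Cfsg.Spor (Fi24)
open Cfsg.Agent.R08.FiTwentyFour (L finite_Fi24)
open Cfsg.Agent.Fischer.Fi24Rep
open Cfsg.Agent.H842.ThreeCl (X)
open Cfsg.Agent.H49.Four.TEight (fgroup24 fgroup24' isT8)
open Cfsg.Agent.H840.Lk (zc c2 Clk Cj Cc gen_mem not_comm_lk zc_mem c2_mem nc_zc2)
open Cfsg.Agent.H840.NormX (fd mem_cent_pair cent_mul comm_of_comm_mul)

theorem card_F : Nat.card Fi24 = 2510411418381323442585600 := H840.Lk.card_Fi24

/-- `y` is conjugate to `X i` or its inverse -/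
def Cl (i : Fin 5) (y : Fi24) : Prop := ∃ g : Fi24, g * y * g⁻¹ = X i ∨ g * y * g⁻¹ = (X i)⁻¹

theorem cl_all {y : Fi24} (h3 : y ^ 3 = 1) (h1 : y ≠ 1) : ∃ i, Cl i y :=
  H842.ThreeCl.all fgroup24' isT8 h3 h1

theorem Cl.conj {i : Fin 5} {y : Fi24} (h : Cl i y) (g : Fi24) : Cl i (g * y * g⁻¹) := by
  obtain ⟨k, hk⟩ := h
  refine ⟨k * g⁻¹, ?_⟩
  rwa [show k * g⁻¹ * (g * y * g⁻¹) * (k * g⁻¹)⁻¹ = k * y * k⁻¹ by group]

theorem card_zp {y : Fi24} (h3 : y ^ 3 = 1) (h1 : y ≠ 1) : Nat.card (zpowers y) = 3 := by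
  have : Fact (Nat.Prime 3) := ⟨Nat.prime_three⟩
  rw [Nat.card_zpowers, orderOf_eq_prime h3 h1]

theorem cent_le_norm (y : Fi24) :
    centralizer ({y} : Set Fi24) ≤ normalizer ((zpowers y : Subgroup Fi24) : Set Fi24) := by
  intro g hg
  refine centralizer_le_normalizer _ (mem_centralizer_iff.2 ?_)
  rintro _ ⟨n, rfl⟩
  exact ((show Commute g y from mem_centralizer_singleton_iff.1 hg).symm.zpow_left n).eq

theorem comm_conj' {g x y : Fi24} (h : Commute x y) : Commute (g * x * g⁻¹) (g * y * g⁻¹) :=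
  H48.WFour.comm_conj.2 h

/-! ### 3A -/

theorem cl0 {y : Fi24} (h : Cl 0 y) : ∃ a ∈ L, ∃ b ∈ L, ¬ Commute a b ∧ y = a * b := by
  have := finite_Fi24
  obtain ⟨g, hg⟩ := h
  have hX : X 0 = gen .l * gen .k := rfl
  have hl := R08.FiTwentyFour.conj (gen_mem .l) g⁻¹
  have hk := R08.FiTwentyFour.conj (gen_mem .k) g⁻¹
  have hn : ¬ Commute (g⁻¹ * gen .l * g⁻¹⁻¹) (g⁻¹ * gen .k * g⁻¹⁻¹) := fun h =>
    not_comm_lk (H48.WFour.comm_conj.1 h)
  have e : y = g⁻¹ * (g * y * g⁻¹) * g := by group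
  rcases hg with hg | hg
  · refine ⟨_, hl, _, hk, hn, ?_⟩
    rw [e, hg, hX]; group
  · refine ⟨_, hk, _, hl, fun h => hn h.symm, ?_⟩
    rw [e, hg, hX, H840.NormX.inv_mul (fd fgroup24) (gen_mem .l) (gen_mem .k)]; group

theorem mem_cent4 {a b c d g : Fi24} : g ∈ centralizer ({a, b, c, d} : Set Fi24) ↔
    Commute a g ∧ Commute b g ∧ Commute c g ∧ Commute d g := by
  rw [mem_centralizer_iff]
  constructor
  · intro h
    exact ⟨h a (by simp), h b (by simp), h c (by simp), h d (by simp)⟩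
  · rintro ⟨h1, h2, h3, h4⟩ x (rfl | rfl | rfl | rfl)
    exacts [h1, h2, h3, h4]

/-- the centralizer of two commuting elements of the class 3A -/
theorem cent_two {a b c d : Fi24} (ha : a ∈ L) (hb : b ∈ L) (hc : c ∈ L) (hd : d ∈ L) (hab : ¬ Commute a b)
    (hcd : ¬ Commute c d) (h1 : Commute a c) (h2 : Commute b c) (h3 : Commute a d) (h4 : Commute b d) :
    centralizer ({a * b} : Set Fi24) ⊓ centralizer ({c * d} : Set Fi24) ≤
      centralizer ({a, b, c, d} : Set Fi24) ⊔ (zpowers (a * b) ⊔ zpowers (c * d)) := by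
  have := finite_Fi24
  rintro g ⟨hg1, hg2⟩
  have hg1' : Commute g (a * b) := mem_centralizer_singleton_iff.1 hg1
  have hg2' : Commute g (c * d) := mem_centralizer_singleton_iff.1 hg2
  have hxy : Commute (a * b) (c * d) := (h1.mul_right h3).mul_left (h2.mul_right h4)
  obtain ⟨x, ⟨n, rfl⟩, u, hu, rfl⟩ := cent_mul fgroup24 ha hb hab hg1'
  have hu2 : Commute u (c * d) := by
    have h5 := (hxy.zpow_left n).inv_left.mul_left hg2'
    rwa [inv_mul_cancel_left] at h5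
  obtain ⟨z, ⟨m, rfl⟩, v, hv, rfl⟩ := cent_mul fgroup24 hc hd hcd hu2
  rw [mem_cent_pair] at hu hv
  have hv1 : Commute a v := by
    have h5 := ((h1.mul_right h3).zpow_right m).inv_right.mul_right hu.1
    rwa [inv_mul_cancel_left] at h5
  have hv2 : Commute b v := by
    have h5 := ((h2.mul_right h4).zpow_right m).inv_right.mul_right hu.2
    rwa [inv_mul_cancel_left] at h5
  exact mul_mem (mem_sup_right (mem_sup_left (zpow_mem_zpowers _ n)))
    (mul_mem (mem_sup_right (mem_sup_right (zpow_mem_zpowers _ m)))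
      (mem_sup_left (mem_cent4.2 ⟨hv1, hv2, hv.1, hv.2⟩)))

theorem good_four {a b c d : Fi24} (ha : a ∈ L) (hb : b ∈ L) (hc : c ∈ L) (hd : d ∈ L) (hab : ¬ Commute a b)
    (hcd : ¬ Commute c d) (h1 : Commute a c) (h2 : Commute b c) (h3 : Commute a d) (h4 : Commute b d)
    (hK : centralizer ({a, b, c, d} : Set Fi24) = Cj ∨ centralizer ({a, b, c, d} : Set Fi24) = Cc) :
    Good (centralizer ({a * b} : Set Fi24) ⊓ centralizer ({c * d} : Set Fi24)) := by
  have := finite_Fi24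
  have key : ∃ E : Subgroup Fi24, E ≤ centralizer ({a, b, c, d} : Set Fi24) ∧
      centralizer ({a, b, c, d} : Set Fi24) ≤ normalizer (E : Set Fi24) ∧ Nat.card E ≤ 3 ^ 5 ∧
      ¬ 3 ^ 8 ∣ E.relIndex (centralizer ({a, b, c, d} : Set Fi24)) := by
    rcases hK with hK | hK <;> rw [hK]
    · obtain ⟨hn, -⟩ := H840.Cj.isRefl
      refine ⟨H840.Cj.E, H840.Cj.E_le, le_normalizer_of fun g hg e he => ?_, H840.Cj.card_E.le, ?_⟩
      · exact hn.conj_mem ⟨e, H840.Cj.E_le he⟩ he ⟨g, hg⟩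
      · have h5 := card_eq_mul H840.Cj.E_le
        rw [H840.Lk.card_Cj, H840.Cj.card_E] at h5
        omega
    · refine ⟨⊥, bot_le, le_normalizer_of fun g _ e he => ?_, by simp, ?_⟩
      · rw [mem_bot.1 he, mul_one, mul_inv_cancel]
        exact one_mem _
      · rw [relIndex_bot_left, H840.Lk.card_Cc]
        norm_num
  obtain ⟨E, k1, k2, k3, k4⟩ := key
  refine good_of_prod (H840.NormX.cube (fd fgroup24) ha hb hab) (H840.NormX.cube (fd fgroup24) hc hd hcd)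
    ((h1.mul_right h3).mul_left (h2.mul_right h4)) (fun k hk => ?_) (fun k hk => ?_) k1 k2 k3 k4
    (cent_two ha hb hc hd hab hcd h1 h2 h3 h4)
  · exact (mem_cent4.1 hk).1.mul_left (mem_cent4.1 hk).2.1
  · exact (mem_cent4.1 hk).2.2.1.mul_left (mem_cent4.1 hk).2.2.2

theorem cent4_eq {a b c d c' d' : Fi24} (h : closure ({c, d} : Set Fi24) = closure ({c', d'} : Set Fi24)) :
    centralizer ({a, b, c, d} : Set Fi24) = centralizer ({a, b, c', d'} : Set Fi24) := by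
  have e : centralizer ({c, d} : Set Fi24) = centralizer ({c', d'} : Set Fi24) := by
    rw [← centralizer_closure, h, centralizer_closure]
  ext g
  rw [mem_cent4, mem_cent4, ← mem_cent_pair (a := c), e, mem_cent_pair]

theorem good_pair {a b c d : Fi24} (ha : a ∈ L) (hb : b ∈ L) (hc : c ∈ L) (hd : d ∈ L) (hab : ¬ Commute a b)
    (hcd : ¬ Commute c d) (h1 : Commute a c) (h2 : Commute b c) (h3 : Commute a d) (h4 : Commute b d) :
    Good (centralizer ({a * b} : Set Fi24) ⊓ centralizer ({c * d} : Set Fi24)) := by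
  have := finite_Fi24
  obtain ⟨g, hg1, hg2⟩ := H840.Lk.noncomm_trans ha hb (gen_mem .l) (gen_mem .k) hab not_comm_lk
  obtain ⟨k, hk, hkk⟩ := H840.M500.conj_cases (R08.FiTwentyFour.conj hc g) (R08.FiTwentyFour.conj hd g)
    (hg1 ▸ comm_conj' h1) (hg2 ▸ comm_conj' h2) (hg1 ▸ comm_conj' h3) (hg2 ▸ comm_conj' h4)
    (fun h => hcd (H48.WFour.comm_conj.1 h))
  rw [H840.M500.map_conj] at hkk
  have e : ∀ t : Fi24, k * (g * t * g⁻¹) * k⁻¹ = k * g * t * (k * g)⁻¹ := fun t => by group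
  have ea : k * g * a * (k * g)⁻¹ = gen .l := by
    rw [← e, hg1, (H840.Lk.mem_Clk.1 hk).1]; group
  have eb : k * g * b * (k * g)⁻¹ = gen .k := by
    rw [← e, hg2, (H840.Lk.mem_Clk.1 hk).2]; group
  rw [e, e] at hkk
  have h5 := good_four (R08.FiTwentyFour.conj ha (k * g)) (R08.FiTwentyFour.conj hb (k * g))
    (R08.FiTwentyFour.conj hc (k * g)) (R08.FiTwentyFour.conj hd (k * g))
    (fun h => hab (H48.WFour.comm_conj.1 h)) (fun h => hcd (H48.WFour.comm_conj.1 h))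
    (comm_conj' h1) (comm_conj' h2) (comm_conj' h3) (comm_conj' h4) (by
      rw [ea, eb]
      rcases hkk with h | h
      · exact Or.inl ((cent4_eq h).trans H840.M500.cent_lkzj)
      · exact Or.inr ((cent4_eq h).trans H840.M500.cent_lkzc))
  refine h5.conj (k * g) ?_
  have e2 : ∀ s t : Fi24, k * g * s * (k * g)⁻¹ * (k * g * t * (k * g)⁻¹) = k * g * (s * t) * (k * g)⁻¹ :=
    fun s t => by group
  rintro u ⟨hu1, hu2⟩
  rw [e2, e2]
  exact ⟨mem_centralizer_singleton_iff.2 (comm_conj' (mem_centralizer_singleton_iff.1 hu1)),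
    mem_centralizer_singleton_iff.2 (comm_conj' (mem_centralizer_singleton_iff.1 hu2))⟩

/-- a subgroup of order at least nine all of whose elements lie in the class 3A -/
theorem good_pure {E : Subgroup Fi24} (hp : ∀ x ∈ E, x ^ 3 = 1) (hcm : ∀ x ∈ E, ∀ y ∈ E, x * y = y * x)
    (h9 : 9 ≤ Nat.card E) (h0 : ∀ x ∈ E, x ≠ 1 → Cl 0 x) : Good (centralizer (E : Set Fi24)) := by
  have := finite_Fi24
  have hne : E ≠ ⊥ := by
    rintro rfl
    rw [card_bot] at h9
    omega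
  obtain ⟨⟨x, hx⟩, hx1⟩ := ne_bot_iff_exists_ne_one.1 hne
  have hx1' : x ≠ 1 := fun h => hx1 (Subtype.ext h)
  obtain ⟨a, ha, b, hb, hab, rfl⟩ := cl0 (h0 x hx hx1')
  have hnle : ¬ E ≤ zpowers (a * b) := by
    intro h
    have h1 := card_le_of_le h
    rw [card_zp (hp _ hx) hx1'] at h1
    omega
  obtain ⟨y, hy, hy'⟩ := SetLike.not_le_iff_exists.1 hnle
  obtain ⟨z, hz, u, hu, rfl⟩ := cent_mul fgroup24 ha hb hab (show Commute y (a * b) from hcm y hy _ hx)
  have huE : u ∈ E := by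
    have h1 := E.mul_mem (E.inv_mem (zpowers_le.2 hx hz)) hy
    rwa [inv_mul_cancel_left] at h1
  have hu1 : u ≠ 1 := by
    rintro rfl
    exact hy' (by rwa [mul_one])
  obtain ⟨c, hc, d, hd, hcd, rfl⟩ := cl0 (h0 u huE hu1)
  rw [mem_cent_pair] at hu
  have k1 := comm_of_comm_mul fgroup24 hc hd ha hcd hu.1
  have k2 := comm_of_comm_mul fgroup24 hc hd hb hcd hu.2
  refine (good_pair ha hb hc hd hab hcd k1.1 k2.1 k1.2 k2.2).mono fun g hg => ⟨?_, ?_⟩
  · exact mem_centralizer_singleton_iff.2 (mem_centralizer_iff.1 hg _ hx).symm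
  · exact mem_centralizer_singleton_iff.2 (mem_centralizer_iff.1 hg _ huE).symm

/-! ### 3C -/

theorem cl1 {y : Fi24} (h3 : y ^ 3 = 1) (h1 : y ≠ 1) (h : Cl 1 y) : ∃ A : Subgroup Fi24,
    (∀ a ∈ A, ∀ b ∈ A, a * b = b * a) ∧ Nat.card A = 3 ^ 7 ∧
    normalizer ((zpowers y : Subgroup Fi24) : Set Fi24) ≤ normalizer (A : Set Fi24) ∧
    A.relIndex (normalizer ((zpowers y : Subgroup Fi24) : Set Fi24)) = 26127360 := by
  obtain ⟨g, hg⟩ := h
  obtain ⟨A, k1, k2, -, -, k3, -, hn, ⟨e⟩⟩ := H841.Sev.exists_A_six (MulEquiv.refl Fi24) (by simp) fgroup24 isT8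
    (zpowers y) (card_zp h3 h1) (H48.OreFi.NineA.width_of hg)
  refine ⟨A, fun a ha b hb => congrArg Subtype.val (k1.1.1.1 ⟨a, ha⟩ ⟨b, hb⟩), k2, k3, ?_⟩
  rw [← H49.Four.NineSix.card_O6, ← Nat.card_congr e.toEquiv]
  rfl

theorem good1 {y : Fi24} (h3 : y ^ 3 = 1) (h1 : y ≠ 1) (h : Cl 1 y) : Good (centralizer ({y} : Set Fi24)) := by
  obtain ⟨A, -, k2, k3, k4⟩ := cl1 h3 h1 h
  refine ⟨A, _, cent_le_norm y, k3, k2.le, ?_⟩
  rw [k4]
  norm_num

/-! ### 3B -/

open Cfsg.Agent.H841.Tri (NX DN xN es_QQ card_QQ) in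
theorem cl2 {y : Fi24} (h : Cl 2 y) : ∃ φ : NX →* Fi24, Function.Injective φ ∧
    φ.range = normalizer ((zpowers y : Subgroup Fi24) : Set Fi24) ∧ (zpowers xN).map φ = zpowers y := by
  obtain ⟨g, hg⟩ := h
  have hX : X 2 = (xN : Fi24) := LThreeFi24.CaseB.word_x3.symm
  have hz : (zpowers (xN : Fi24)).map (MulAut.conj g⁻¹).toMonoidHom = zpowers y := by
    rw [H48.OreFi.NineA.zpowers_map, ← hX]
    rcases hg with hg | hg
    · rw [← hg]
      congr 1
      group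
    · rw [← zpowers_inv, show (g⁻¹ * X 2 * g⁻¹⁻¹)⁻¹ = g⁻¹ * (X 2)⁻¹ * g by group, ← hg]
      congr 1
      group
  refine ⟨(MulAut.conj g⁻¹).toMonoidHom.comp NX.subtype, (MulAut.conj g⁻¹).injective.comp NX.subtype_injective,
    ?_, ?_⟩
  · rw [← hz, ← H841.Transport.map_normalizer, MonoidHom.range_comp, range_subtype]
    rfl
  · rw [← hz, ← map_map, MonoidHom.map_zpowers]
    rfl

open Cfsg.Agent.H841.Tri (NX DN xN es_QQ card_QQ) in
theorem cl2' {y : Fi24} (h : Cl 2 y) : ∃ Q : Subgroup Fi24, H841.Ext.ES (zpowers y) Q ∧ Nat.card Q = 3 ^ 11 ∧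
    normalizer ((zpowers y : Subgroup Fi24) : Set Fi24) ≤ normalizer (Q : Set Fi24) ∧
    ¬ 3 ^ 8 ∣ Q.relIndex (normalizer ((zpowers y : Subgroup Fi24) : Set Fi24)) := by
  have := finite_Fi24
  obtain ⟨φ, hφ, k1, k2⟩ := cl2 h
  obtain ⟨hn, -⟩ := H841.Tri.quot_NX
  have hc := (H841.InjTr.card_map φ hφ _).trans card_QQ
  refine ⟨_, k2 ▸ H841.InjTr.es_map φ es_QQ hφ, hc, ?_, ?_⟩
  · rw [← k1]
    refine le_normalizer_of ?_
    rintro _ ⟨g, rfl⟩ _ ⟨q, hq, rfl⟩
    exact ⟨g * q * g⁻¹, hn.conj_mem q hq g, by rw [map_mul, map_mul, map_inv]⟩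
  · rw [← k1]
    intro hd
    have h1 := card_eq_mul (map_le_range φ (H841.Ext.QQ DN))
    have h2 := card_subgroup_dvd_card φ.range
    rw [h1, hc, card_F] at h2
    have h3 := (Nat.mul_dvd_mul_right hd (3 ^ 11)).trans h2
    norm_num at h3

theorem s7_two {E : Subgroup Fi24} {y z : Fi24} (hy : y ∈ E) (hz : z ∈ E) (hy3 : y ^ 3 = 1) (hy1 : y ≠ 1)
    (hz3 : z ^ 3 = 1) (hz1 : z ≠ 1) (cy : Cl 2 y) (cz : Cl 2 z) (hne : zpowers y ≠ zpowers z) : S7 Fi24 E := by
  have := finite_Fi24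
  have : Fact (Nat.Prime 3) := ⟨Nat.prime_three⟩
  obtain ⟨Q₁, e₁, c₁, n₁, i₁⟩ := cl2' cy
  obtain ⟨Q₂, e₂, -, n₂, i₂⟩ := cl2' cz
  have hC : ∀ t ∈ E, centralizer (E : Set Fi24) ≤ normalizer ((zpowers t : Subgroup Fi24) : Set Fi24) :=
    fun t ht => (centralizer_le (Set.singleton_subset_iff.2 ht)).trans (cent_le_norm t)
  refine s7_of_two (hC y hy) (hC z hz) n₁ n₂ i₁ i₂ ?_
  have hbot : zpowers y ⊓ zpowers z = ⊥ := by
    have h1 := card_dvd_of_le (inf_le_left : zpowers y ⊓ zpowers z ≤ zpowers y)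
    rw [card_zp hy3 hy1, Nat.dvd_prime Nat.prime_three] at h1
    rcases h1 with h1 | h1
    · exact card_eq_one.1 h1
    · exfalso
      apply hne
      have h2 : zpowers y ⊓ zpowers z = zpowers y := eq_of_le_of_card_ge inf_le_left (by rw [h1, card_zp hy3 hy1])
      have h3 : zpowers y ⊓ zpowers z = zpowers z := eq_of_le_of_card_ge inf_le_right (by rw [h1, card_zp hz3 hz1])
      rw [← h2, h3]
  have hab : ∀ a ∈ Q₁ ⊓ Q₂, ∀ b ∈ Q₁ ⊓ Q₂, a * b = b * a := by
    intro a ha b hb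
    have h1 : a * b * a⁻¹ * b⁻¹ ∈ zpowers y ⊓ zpowers z := ⟨e₁.com a ha.1 b hb.1, e₂.com a ha.2 b hb.2⟩
    rw [hbot, mem_bot] at h1
    calc a * b = a * b * a⁻¹ * b⁻¹ * (b * a) := by group
      _ = b * a := by rw [h1, one_mul]
  have h1 := F24.card_sq_le Nat.prime_three (card_zp hy3 hy1) e₁.com (fun x hx a ha => (e₁.cen a ha x hx).symm.eq)
    inf_le_left hab
  have h2 : Nat.card (Q₁ ⊓ Q₂ ⊓ centralizer (Q₁ : Set Fi24) : Subgroup Fi24) ≤ 3 := by
    rw [← card_zp hy3 hy1]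
    exact card_le_of_le fun x hx => e₁.nd x hx.1.1 fun q hq => (mem_centralizer_iff.1 hx.2 q hq).symm
  rw [c₁] at h1
  have h3 : Nat.card (Q₁ ⊓ Q₂ : Subgroup Fi24) * Nat.card (Q₁ ⊓ Q₂ : Subgroup Fi24) ≤ 3 ^ 7 * 3 ^ 7 :=
    h1.trans ((Nat.mul_le_mul_left _ h2).trans (by norm_num))
  exact Nat.mul_self_le_mul_self_iff.1 h3

/-! ### 3D -/

theorem cl3 {y : Fi24} (h3 : y ^ 3 = 1) (h1 : y ≠ 1) (h : Cl 3 y) :
    Nat.card (normalizer ((zpowers y : Subgroup Fi24) : Set Fi24)) = 612220032 ∧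
      ¬ normalizer ((zpowers y : Subgroup Fi24) : Set Fi24) ≤ commutator Fi24 := by
  have := finite_Fi24
  obtain ⟨g, hg⟩ := h
  have hw := H48.OreFi.NineA.width_of hg
  refine ⟨H48.OreFi.NineA.card_N (H832.WTwo.Main.main fgroup24 isT8 _ (card_zp h3 h1) hw), fun hle => ?_⟩
  obtain ⟨t₁, t₂, hP⟩ := H832.WTwo.Uniq.exists_pair hw
  have h2 := hle (cent_le_norm y (mem_centralizer_singleton_iff.2 (hP.cx y (mem_zpowers y)).symm))
  rw [R08.FiTwentyFour.mem_commutator_iff, R08.FiTwentyFour.sgn_L hP.hx] at h2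
  exact absurd h2 (by decide)

theorem s7_three {E : Subgroup Fi24} {y : Fi24} (hy : y ∈ E) (h3 : y ^ 3 = 1) (h1 : y ≠ 1) (h : Cl 3 y) :
    S7 Fi24 E := by
  obtain ⟨k1, k2⟩ := cl3 h3 h1 h
  refine Or.inl fun hd => ?_
  set N := normalizer ((zpowers y : Subgroup Fi24) : Set Fi24) with hN
  have h4 : centralizer (E : Set Fi24) ⊓ commutator Fi24 ≤ N ⊓ commutator Fi24 :=
    inf_le_inf_right _ ((centralizer_le (Set.singleton_subset_iff.2 hy)).trans (cent_le_norm y))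
  have h5 := hd.trans (card_dvd_of_le h4)
  have h6 := card_eq_mul (inf_le_left : N ⊓ commutator Fi24 ≤ N)
  rw [inf_relIndex_left, k1] at h6
  have h7 := relIndex_dvd_index_of_normal (commutator Fi24) N
  rw [R08.FiTwentyFour.index_commutator, Nat.dvd_prime Nat.prime_two] at h7
  rcases h7 with h7 | h7
  · exact k2 (relIndex_eq_one.1 h7)
  · rw [h7] at h6
    omega

/-! ### 3E -/

open Cfsg.Agent.H48.WFour in
theorem card_cent_w : ¬ 3 ^ 9 ∣ Nat.card (centralizer ({w} : Set Fi24)) := by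
  classical
  have := finite_Fi24
  have h1 := H840.Lk.card_conj (centralizer ({w} : Set Fi24)) (gen .l)
  set n := ({x | ∃ y ∈ centralizer ({w} : Set Fi24), y * gen .l * y⁻¹ = x} : Set Fi24).ncard with hn
  have h2 : n ≤ 6 := by
    let S : Finset Fi24 := {gen .l, gen .k, gen .l * gen .k * gen .l, zc, c2, zc * c2 * zc}
    have hS : S.card ≤ 6 := Finset.card_le_six
    rw [← Set.ncard_coe_finset] at hS
    refine (Set.ncard_le_ncard ?_ S.finite_toSet).trans hS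
    rintro _ ⟨y, hy, rfl⟩
    obtain ⟨k1, k2⟩ := six_of_comm (h := y) (mem_centralizer_singleton_iff.1 hy)
    simp only [S, Finset.coe_insert, Finset.coe_singleton, Set.mem_insert_iff, Set.mem_singleton_iff]
    rcases k2 with k2 | k2
    · rcases H840.NormX.inv_three fg (gen_mem .l) (gen_mem .k) k1 not_comm_lk k2 with h3 | h3 | h3
      · exact Or.inl h3
      · exact Or.inr (Or.inl h3)
      · exact Or.inr (Or.inr (Or.inl h3))
    · rcases H840.NormX.inv_three fg zc_mem c2_mem k1 nc_zc2 k2 with h3 | h3 | h3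
      · exact Or.inr (Or.inr (Or.inr (Or.inl h3)))
      · exact Or.inr (Or.inr (Or.inr (Or.inr (Or.inl h3))))
      · exact Or.inr (Or.inr (Or.inr (Or.inr (Or.inr h3))))
  have h3 : centralizer ({w} : Set Fi24) ⊓ centralizer ({gen .l} : Set Fi24) ≤ zpowers (zc * c2) ⊔ Cc := by
    rintro g ⟨hg1, hg2⟩
    have gw : Commute g w := mem_centralizer_singleton_iff.1 hg1
    have gl : Commute g (gen .l) := mem_centralizer_singleton_iff.1 hg2
    have gk : Commute g (gen .k) := by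
      rw [← w_l]
      exact (gw.mul_right gl).mul_right gw.inv_right
    have gz : Commute g (zc * c2) := by
      have h4 := (gl.mul_right gk).inv_right.mul_right gw
      rwa [w_eq, inv_mul_cancel_left] at h4
    obtain ⟨x, ⟨m, rfl⟩, u, hu, rfl⟩ := cent_mul fgroup24 zc_mem c2_mem nc_zc2 gz
    rw [mem_cent_pair] at hu
    refine mul_mem (mem_sup_left (zpow_mem_zpowers _ m)) (mem_sup_right ?_)
    rw [← H840.M500.cent_lkzc, mem_cent4]
    refine ⟨?_, ?_, hu.1, hu.2⟩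
    · have h4 := ((lz.mul_right lc).zpow_right m).inv_right.mul_right gl.symm
      rwa [inv_mul_cancel_left] at h4
    · have h4 := ((kz.mul_right kc).zpow_right m).inv_right.mul_right gk.symm
      rwa [inv_mul_cancel_left] at h4
  have h4 : zpowers (zc * c2) ≤ normalizer (Cc : Set Fi24) := by
    refine zp_le_norm fun a ha => ?_
    rw [← H840.M500.cent_lkzc, mem_cent4] at ha
    exact ha.2.2.1.mul_left ha.2.2.2
  have h5 := (card_dvd_of_le h3).trans (card_sup_dvd h4)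
  rw [Nat.card_zpowers, H840.NormX.orderOf_mul (fd fgroup24) zc_mem c2_mem nc_zc2, H840.Lk.card_Cc] at h5
  have h6 : 0 < n := by
    have h7 : 0 < Nat.card (centralizer ({w} : Set Fi24)) := Nat.card_pos
    rw [h1] at h7
    exact Nat.pos_of_mul_pos_right h7
  intro hd
  rw [h1] at hd
  have h7 := hd.trans (Nat.mul_dvd_mul_left n h5)
  interval_cases n <;> norm_num at h7

theorem cl4 {y : Fi24} (h : Cl 4 y) : ¬ 3 ^ 9 ∣ Nat.card (centralizer ({y} : Set Fi24)) := by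
  obtain ⟨g, hg⟩ := h
  obtain ⟨k, hk⟩ := H48.WFour.w_X
  have key : ∀ u : Fi24, Commute u y → Commute ((k⁻¹ * g) * u * (k⁻¹ * g)⁻¹) H48.WFour.w := by
    intro u hu
    have h1 : Commute (g * u * g⁻¹) (X 4) := by
      rcases hg with hg | hg
      · rw [← hg]; exact comm_conj' hu
      · rw [← Commute.inv_right_iff, ← hg]; exact comm_conj' hu
    have h2 : Commute (g * u * g⁻¹) (k * H48.WFour.w * k⁻¹) := by
      rcases hk with hk | hk
      · rwa [hk]
      · rw [hk]; exact h1.inv_right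
    rw [← H48.WFour.comm_conj (h := k)]
    rwa [show k * (k⁻¹ * g * u * (k⁻¹ * g)⁻¹) * k⁻¹ = g * u * g⁻¹ by group]
  have h1 : (centralizer ({y} : Set Fi24)).map (MulAut.conj (k⁻¹ * g)).toMonoidHom ≤
      centralizer ({H48.WFour.w} : Set Fi24) := by
    rintro _ ⟨u, hu, rfl⟩
    exact mem_centralizer_singleton_iff.2 (key u (mem_centralizer_singleton_iff.1 hu))
  have h2 := card_dvd_of_le h1
  rw [H841.Transport.card_map] at h2
  exact fun hd => card_cent_w (hd.trans h2)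

theorem good4 {y : Fi24} (h3 : y ^ 3 = 1) (h1 : y ≠ 1) (h : Cl 4 y) : Good (centralizer ({y} : Set Fi24)) := by
  refine ⟨zpowers y, _, le_rfl, cent_le_norm y, by rw [card_zp h3 h1]; norm_num, fun hd => cl4 h ?_⟩
  rw [card_eq_mul (show zpowers y ≤ centralizer ({y} : Set Fi24) from
    zpowers_le.2 (mem_centralizer_singleton_iff.2 rfl)), card_zp h3 h1]
  exact Nat.mul_dvd_mul_right hd 3

end Cfsg.Agent.DS.Sp.F24S
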