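import Mathlib
import Cfsg.Agent.DS.Ord.Irr
import Cfsg.Agent.DS.Gen.Perm

/-!
# Normal elementary abelian `2`-subgroups of irreducible groups of degree at most eight over `F₃` (helper57)

The eigenspaces are permuted, there are at most eight of them.
-/

set_option autoImplicit false
set_option linter.style.haveILetI false
set_option linter.unusedSectionVars false

namespace Cfsg.Agent.DS.Sp

open Subgroup Cfsg.Agent.H511.Wt Cfsg.Agent.DS.Ord
open scoped Pointwise commutatorElement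

theorem three_smul_of_irr {G V : Type*} [Group G] [AddCommGroup V] [Finite V] [DistribMulAction G V]
    (hirr : Irr G V) {q j : ℕ} (hq : q.Prime) (hc : Nat.card V = q ^ j) (x : V) : q • x = 0 := by
  obtain ⟨p, hp, hpx⟩ := hirr.exists_prime
  have hnt := hirr.nt
  obtain ⟨y, hy⟩ := exists_ne (0 : V)
  haveI : Fact p.Prime := ⟨hp⟩
  have h1 : addOrderOf y = p := addOrderOf_eq_prime (hpx y) hy
  have h2 : p ∣ q ^ j := by
    rw [← hc, ← h1]
    exact addOrderOf_dvd_natCard y
  have h3 : p = q := (Nat.prime_dvd_prime_iff_eq hp hq).1 (hp.dvd_of_dvd_pow h2)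
  rw [← h3]
  exact hpx x

/-- a common eigenvector -/
theorem exists_eig {G V : Type*} [Group G] [AddCommGroup V] [Finite V] [Nontrivial V] [DistribMulAction G V]
    (A : Subgroup G) (hcomm : ∀ a ∈ A, ∀ b ∈ A, ∀ v : V, a • b • v = b • a • v)
    (hsq : ∀ a ∈ A, ∀ v : V, a • a • v = v) : ∃ v : V, v ≠ 0 ∧ ∀ a ∈ A, a • v = v ∨ a • v = -v := by
  obtain ⟨W, hW⟩ := (Set.toFinite {W : AddSubgroup V | W ≠ ⊥ ∧ ∀ a ∈ A, ∀ w ∈ W, a • w ∈ W}).exists_minimal
    ⟨⊤, top_ne_bot, fun _ _ _ _ => AddSubgroup.mem_top _⟩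
  obtain ⟨hW0, hWA⟩ := hW.prop
  obtain ⟨⟨v, hv⟩, hv0⟩ := (AddSubgroup.ne_bot_iff_exists_ne_zero).1 hW0
  refine ⟨v, fun h => hv0 (Subtype.ext h), fun a ha => ?_⟩
  let U : AddSubgroup V :=
    { carrier := {w | w ∈ W ∧ a • w = w}
      add_mem' := fun {x y} hx hy => ⟨W.add_mem hx.1 hy.1, by rw [smul_add, hx.2, hy.2]⟩
      zero_mem' := ⟨W.zero_mem, smul_zero a⟩
      neg_mem' := fun {x} hx => ⟨W.neg_mem hx.1, by rw [smul_neg, hx.2]⟩ }
  by_cases hU : U = ⊥
  · right
    have h1 : v + a • v ∈ U := ⟨W.add_mem hv (hWA a ha v hv), by rw [smul_add, hsq a ha, add_comm]⟩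
    rw [hU, AddSubgroup.mem_bot] at h1
    exact (neg_eq_of_add_eq_zero_right h1).symm
  · left
    have h1 : W ≤ U := hW.le_of_le ⟨hU, fun b hb w hw => ⟨hWA b hb w hw.1, by rw [hcomm a ha b hb, hw.2]⟩⟩
      (fun w hw => hw.1)
    exact (h1 hv).2

theorem eig_comm {G V : Type} [Group G] [Finite G] [Group.IsSolvable G] [AddCommGroup V] [Finite V]
    [DistribMulAction G V] (hirr : Irr G V) {j : ℕ} (hc : Nat.card V = 3 ^ j) (hj : j ≤ 8) (A : Subgroup G)
    [hA : A.Normal] (hcomm : ∀ a ∈ A, ∀ b ∈ A, ∀ v : V, a • b • v = b • a • v)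
    (hsq : ∀ a ∈ A, ∀ v : V, a • a • v = v) :
    ∀ g ∈ dser (⊤ : Subgroup G) 4, ∀ a ∈ A, ∀ v : V, ⁅g, a⁆ • v = v := by
  classical
  haveI : Fact (Nat.Prime 3) := ⟨Nat.prime_three⟩
  have hnt := hirr.nt
  obtain ⟨inst⟩ : Nonempty (Module (ZMod 3) V) := ⟨AddCommGroup.zmodModule (three_smul_of_irr hirr Nat.prime_three hc)⟩
  haveI : Module.Finite (ZMod 3) V := Module.Finite.of_finite
  have h1 := Module.natCard_eq_pow_finrank (K := ZMod 3) (V := V)
  rw [Nat.card_zmod, hc] at h1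
  have h2 : Module.finrank (ZMod 3) V = j := (Nat.pow_right_injective (by norm_num) h1).symm
  let φ : G → Module.End (ZMod 3) V := fun g => (DistribSMul.toAddMonoidHom V g).toZModLinearMap 3
  have hφ : ∀ (g : G) (c : ZMod 3) (v : V), g • c • v = c • g • v := fun g c v => (φ g).map_smul c v
  let f : A → Module.End (ZMod 3) V := fun a => φ a
  let E : (A → ZMod 3) → Submodule (ZMod 3) V := fun χ => ⨅ a, (f a).eigenspace (χ a)
  have hE : ∀ χ v, v ∈ E χ ↔ ∀ a : A, (a : G) • v = χ a • v := by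
    intro χ v
    rw [Submodule.mem_iInf]
    exact forall_congr' fun a => Module.End.mem_eigenspace_iff
  have hind : iSupIndep E := by
    refine (Module.End.independent_iInf_maxGenEigenspace_of_forall_mapsTo f fun a b c => ?_).mono fun χ => ?_
    · refine Module.End.mapsTo_maxGenEigenspace_of_comm ?_ c
      exact LinearMap.ext fun v => hcomm b b.2 a a.2 v
    · exact iInf_mono fun a => Module.End.eigenspace_le_maxGenEigenspace
  letI : Fintype {χ // E χ ≠ ⊥} := Fintype.ofFinite _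
  have hcard := hind.subtype_ne_bot_le_finrank
  obtain ⟨v, hv0, hv⟩ := exists_eig (V := V) A hcomm hsq
  let χ0 : A → ZMod 3 := fun a => if (a : G) • v = v then 1 else -1
  have hv1 : v ∈ E χ0 := by
    rw [hE]
    intro a
    by_cases h : (a : G) • v = v
    · simp only [χ0, h, if_true, one_smul]
    · simp only [χ0, h, if_false, neg_smul, one_smul]
      exact (hv a a.2).resolve_left h
  clear_value χ0
  have horb : ∀ (g : G) (χ : A → ZMod 3), g • (E χ).toAddSubgroup =
      (E fun a => χ ⟨g⁻¹ * a * g⁻¹⁻¹, hA.conj_mem _ a.2 _⟩).toAddSubgroup := by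
    intro g χ
    ext w
    rw [mem_smul_iff, Submodule.mem_toAddSubgroup, Submodule.mem_toAddSubgroup, hE, hE]
    constructor
    · intro h a
      have h3 := h ⟨g⁻¹ * a * g⁻¹⁻¹, hA.conj_mem _ a.2 _⟩
      simp only [mul_smul, inv_inv, smul_inv_smul] at h3
      rw [← hφ, smul_left_cancel_iff] at h3
      simpa only [inv_inv] using h3
    · intro h a
      have h3 := h ⟨g * a * g⁻¹, hA.conj_mem _ a.2 _⟩
      have h4 : (⟨g⁻¹ * (g * a * g⁻¹) * g⁻¹⁻¹, hA.conj_mem _ (hA.conj_mem _ a.2 _) _⟩ : A) = a :=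
        Subtype.ext (by group)
      simp only [h4, mul_smul] at h3
      rw [← hφ, ← h3, inv_smul_smul]
  set E0 := (E χ0).toAddSubgroup with hE0
  have hΩ : ∀ W : MulAction.orbit G E0, ∃ χ : {χ // E χ ≠ ⊥}, (W : AddSubgroup V) = (E χ.1).toAddSubgroup := by
    rintro ⟨_, g, rfl⟩
    refine ⟨⟨_, fun h => ?_⟩, horb g χ0⟩
    have h3 : g • v ∈ g • E0 := AddSubgroup.smul_mem_pointwise_smul v g _ hv1
    rw [hE0, horb, h, Submodule.mem_toAddSubgroup, Submodule.mem_bot, smul_eq_zero_iff_eq] at h3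
    exact hv0 h3
  choose ψ hψ using hΩ
  have hψi : Function.Injective ψ := fun W W' h => Subtype.ext (by rw [hψ, hψ, h])
  have hΩc : Nat.card (MulAction.orbit G E0) ≤ 8 := by
    refine (Nat.card_le_card_of_injective ψ hψi).trans ?_
    rw [Nat.card_eq_fintype_card]
    omega
  have hsd := Gen.sd_perm_eight hΩc (MulAction.toPermHom G (MulAction.orbit G E0)).range
    (Group.isSolvable_of_surjective (MulAction.toPermHom G (MulAction.orbit G E0)).rangeRestrict_surjective)
  intro g hg a ha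
  have hg1 : ∀ W : MulAction.orbit G E0, g • (W : AddSubgroup V) = W := by
    intro W
    have h3 : MulAction.toPermHom G (MulAction.orbit G E0) g ∈
        dser (MulAction.toPermHom G (MulAction.orbit G E0)).range 4 := by
      rw [MonoidHom.range_eq_map, ← map_dser]
      exact ⟨g, hg, rfl⟩
    rw [(dser_eq_bot_iff _ 4).2 hsd, mem_bot] at h3
    exact congrArg Subtype.val (congrArg (fun e : Equiv.Perm (MulAction.orbit G E0) => e W) h3)
  let U : AddSubgroup V :=
    { carrier := {w | ⁅g, a⁆ • w = w}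
      add_mem' := fun {x y} (hx : _ = _) (hy : _ = _) => by change _ = _; rw [smul_add, hx, hy]
      zero_mem' := smul_zero _
      neg_mem' := fun {x} (hx : _ = _) => by change _ = _; rw [smul_neg, hx] }
  have hU : ∀ k : G, k • E0 ≤ U := by
    intro k w hw
    have h3 := hψ ⟨k • E0, k, rfl⟩
    have h4 := hg1 ⟨k • E0, k, rfl⟩
    generalize (ψ ⟨k • E0, k, rfl⟩).1 = χ at h3
    change k • E0 = _ at h3
    change g • k • E0 = k • E0 at h4
    rw [h3] at h4 hw
    have h5 : a⁻¹ • w ∈ E χ := by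
      rw [(hE χ w).1 hw ⟨a⁻¹, A.inv_mem ha⟩]
      exact (E χ).smul_mem _ hw
    have h6 : g⁻¹ • a⁻¹ • w ∈ (E χ).toAddSubgroup := by
      rw [← mem_smul_iff, h4]
      exact h5
    change ⁅g, a⁆ • w = w
    have h7 := (hE χ _).1 h6 ⟨a, ha⟩
    have h8 := (hE χ _).1 h5 ⟨a, ha⟩
    simp only at h7 h8
    rw [commutatorElement_def, mul_smul, mul_smul, mul_smul, h7, hφ, smul_inv_smul, ← h8, smul_inv_smul]
  have htop : ⨆ k : G, k • E0 = ⊤ := by
    refine (hirr.irr (⨆ k : G, k • E0) ?_).resolve_left ?_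
    · intro k x hx
      have h3 : k • x ∈ k • (⨆ l : G, l • E0) := AddSubgroup.smul_mem_pointwise_smul x k _ hx
      rw [smul_iSup'] at h3
      have h4 : ⨆ l : G, k • l • E0 ≤ ⨆ l : G, l • E0 := by
        refine iSup_le fun l => ?_
        rw [smul_smul]
        exact le_iSup (fun l : G => l • E0) (k * l)
      exact h4 h3
    · intro h
      have h3 : (1 : G) • E0 ≤ ⊥ := by
        rw [← h]
        exact le_iSup (fun l : G => l • E0) 1
      rw [one_smul] at h3
      exact hv0 (h3 hv1)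
  intro w
  have h3 : (⊤ : AddSubgroup V) ≤ U := by
    rw [← htop]
    exact iSup_le hU
  exact h3 (AddSubgroup.mem_top w)

end Cfsg.Agent.DS.Sp
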