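import Mathlib
import Cfsg.Agent.DS.Ord.TabA
import Cfsg.Agent.DS.Sp.D8Defs

/-!
# Irreducible solvable groups of degree at most `15` over `F₃` and derived length at least `8` (helper57)

The sixth derived group is extraspecial of order `2 ^ 7`.
-/

set_option autoImplicit false
set_option linter.style.haveILetI false
set_option linter.unusedSectionVars false

namespace Cfsg.Agent.DS.Sp

open Subgroup Cfsg.Agent.H511.Wt Cfsg.Agent.DS.Ord
open scoped Pointwise commutatorElement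

/-- the imprimitive branch of `Ord.clif` -/
theorem imp_dl (G V : Type) [Group G] [Finite G] [Group.IsSolvable G] [AddCommGroup V] [Finite V]
    [DistribMulAction G V] (hirr : Irr G V) {q j N e : ℕ} (hq : q.Prime) (hc : Nat.card V = q ^ j)
    (hN : Nat.card G ∣ N) (h : ImpP G V)
    (himp : ∀ t r c, r.Prime → t = r ^ c → 2 ≤ t → t ∣ j → t ∣ N →
      ∃ a b, b + 1 + a ≤ e ∧ LinLt (Nat.card G) q (j / t) (N / t) a ∧ LinLt (Nat.card G) r c (N / t) b) :
    DL G V e := by
  have hnt := hirr.nt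
  obtain ⟨M, W, hM, h1, h2, h3⟩ := h
  have D : Imp M W := ⟨h1, h2, h3⟩
  letI := resAct M (W ((1 : G) : _ ⧸ M)) D.res_mem
  have h4 := D.irr_res hirr
  have h5 : M.index ≠ 0 := index_ne_zero_of_finite
  have h6 : M.index ≠ 1 := by
    rw [Ne, index_eq_one]
    exact hM.1
  have hcV := D.card_V
  rw [hc] at hcV
  obtain ⟨i, hi, hij⟩ := pow_eq_prime_pow hq h5 hcV.symm
  obtain ⟨T, hT, t1, t2, t3, t4, t5⟩ := coatom_struct hM
  obtain ⟨X, j1, j2, j3, hXirr, hXc, hX⟩ := exists_mod M.normalCore T t1 t2 t3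
  obtain ⟨r, c, hr, _, hrc⟩ := (isPrimePow_nat_iff _).1 hXirr.isPrimePow
  rw [hXc, t4] at hrc
  have htN : M.index ∣ N := M.index_dvd_card.trans hN
  obtain ⟨a, b, hab, ha, hb⟩ := himp M.index r c hr hrc.symm (by omega) ⟨i, by rw [← hij, mul_comm]⟩ htN
  have hMc : Nat.card M * M.index = Nat.card G := M.card_mul_index
  have hMp : 0 < Nat.card M := Nat.card_pos
  have him : Nat.card (Im M (W ((1 : G) : _ ⧸ M))) ∣ Nat.card M :=
    Subgroup.card_dvd_of_surjective _ toIm_surjective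
  have ha' := ha M _ h4 i (by rw [← hij, Nat.mul_div_cancel _ (by omega)]) hi
    (lt_of_le_of_lt (Nat.le_of_dvd hMp him) (by rw [← hMc]; exact (Nat.lt_mul_iff_one_lt_right hMp).2 (by omega)))
    (him.trans (dvd_div_of (by omega) (by rw [hMc]; exact hN)))
  have hTi : Nat.card (Im G X) = T.index := by rw [card_im hX, t5]
  have hb' := hb G X hXirr c le_rfl (by rw [hXc, t4, hrc])
    (by rw [hTi]; exact index_lt_card (ne_bot_of_gt t1))
    (by
      rw [hTi]
      refine dvd_div_of (by omega) (index_mul_dvd ?_ hN)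
      rw [← t4]
      exact relIndex_dvd_card _ _)
  rw [DL.iff_le hX, t5] at hb'
  exact (D.dl ha' (dser_add_le (b := 1) hb' t3)).mono hab

theorem imp_num : ∀ r < 16, ∀ c < 4, (r ∈ PR ∧ 2 ≤ r ^ c ∧ r ^ c ≤ 15) →
    lk tabAL r c NB + 1 + lk tabAL 3 (15 / r ^ c) NB ≤ 7 := by decide +kernel

theorem imp_seven (G V : Type) [Group G] [Finite G] [Group.IsSolvable G] [AddCommGroup V] [Finite V]
    [DistribMulAction G V] (hirr : Irr G V) {j : ℕ} (hc : Nat.card V = 3 ^ j) (hj : j ≤ 15)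
    (hN : Nat.card G ∣ NB) (h : ImpP G V) : DL G V 7 := by
  refine imp_dl G V hirr Nat.prime_three hc hN h ?_
  rintro t r c hr rfl h2 h3 h4
  have h5 : r ^ c ≤ 15 := (Nat.le_of_dvd (exp_pos hirr hc) h3).trans hj
  have hc0 : c ≠ 0 := by
    rintro rfl
    simp at h2
  have h6 : r < 16 := lt_of_le_of_lt ((Nat.le_self_pow hc0 r).trans h5) (by norm_num)
  have h7 : c < 4 := by
    by_contra hlt
    have : 2 ^ 4 ≤ r ^ c := (Nat.pow_le_pow_right (by norm_num) (by omega)).trans (Nat.pow_le_pow_left hr.two_le c)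
    omega
  have h8 := imp_num r h6 c h7 ⟨mem_PR hr (by omega), h2, h5⟩
  exact ⟨_, _, h8, ((tabA_valid _).lk Nat.prime_three (by omega)).mono le_rfl (Nat.div_le_div_right hj)
    (Nat.div_dvd_of_dvd h4) le_rfl, ((tabA_valid _).lk hr (by omega)).mono le_rfl le_rfl (Nat.div_dvd_of_dvd h4) le_rfl⟩

set_option synthInstance.maxSize 1000 in
theorem qp_num {f m r : ℕ} (hr : r.Prime) (h : f * m ≤ 15) (hf : 1 ≤ f) (hm : 1 ≤ m) (h1 : r ∣ m)
    (h2 : r ∣ 3 ^ f - 1) : r = 2 := by
  have key : ∀ f < 16, ∀ m < 16, ∀ r < 16,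
      (f * m ≤ 15 ∧ 1 ≤ f ∧ 1 ≤ m ∧ 2 ≤ r ∧ r ∣ m ∧ r ∣ 3 ^ f - 1) → 2 ∣ r := by
    decide +kernel
  have h3 : f ≤ 15 := le_trans (Nat.le_mul_of_pos_right f hm) h
  have h4 : m ≤ 15 := le_trans (Nat.le_mul_of_pos_left m hf) h
  have h5 : r ≤ m := Nat.le_of_dvd hm h1
  exact ((Nat.prime_dvd_prime_iff_eq Nat.prime_two hr).1
    (key f (by omega) m (by omega) r (by omega) ⟨h, hf, hm, hr.two_le, h1, h2⟩)).symm

theorem NB_three {n : ℕ} (h : n ∣ NB) (h1 : ¬ 81 ∣ n) : n ∣ NB / 3 ^ 17 := by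
  have h2 : NB = 3 ^ 20 * (NB / 3 ^ 20) := by decide +kernel
  have h3 : NB / 3 ^ 17 = 3 ^ 3 * (NB / 3 ^ 20) := by decide +kernel
  rw [h2] at h
  obtain ⟨a1, a2, h4, h5, rfl⟩ := exists_dvd_and_dvd_of_dvd_mul h
  obtain ⟨i, hi, rfl⟩ := (Nat.dvd_prime_pow Nat.prime_three).1 h4
  have h6 : i ≤ 3 := by
    by_contra hlt
    exact h1 ((pow_dvd_pow 3 (show 4 ≤ i by omega)).trans (dvd_mul_right _ _))
  rw [h3]
  exact Nat.mul_dvd_mul (pow_dvd_pow 3 h6) h5

/-- the conclusion -/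
structure PhiM (G V : Type) [Group G] [AddCommGroup V] [DistribMulAction G V] (z : G) : Prop where
  neg : ∀ v : V, z • v = -v
  mem : z ∈ dser (⊤ : Subgroup G) 7
  sev : ∀ g ∈ dser (⊤ : Subgroup G) 7, g = 1 ∨ g = z
  card : Nat.card (dser (⊤ : Subgroup G) 6) = 128
  min : ∀ L : Subgroup G, L.Normal → dser (⊤ : Subgroup G) 7 ≤ L →
    ⁅dser (⊤ : Subgroup G) 4, dser (⊤ : Subgroup G) 6⁆ ≤ L → dser (⊤ : Subgroup G) 6 ≤ L
  sq : ∀ g ∈ dser (⊤ : Subgroup G) 6, g ^ 2 ∈ dser (⊤ : Subgroup G) 7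
  dvd : 81 ∣ Nat.card G
  big : ∀ W : AddSubgroup V, (∀ g ∈ dser (⊤ : Subgroup G) 6, ∀ w ∈ W, g • w ∈ W) → W ≠ ⊥ → 3 ^ 8 ≤ Nat.card W

theorem phi_mod (G V : Type) [Group G] [Finite G] [Group.IsSolvable G] [AddCommGroup V] [Finite V]
    [DistribMulAction G V] (hirr : Irr G V) (hf : ∀ g : G, (∀ x : V, g • x = x) → g = 1) {j : ℕ}
    (hc : Nat.card V = 3 ^ j) (hj : j ≤ 15) (hN : Nat.card G ∣ NB) (hd : ¬ DL G V 7) : ∃ z, PhiM G V z := by
  have hnt := hirr.nt
  rcases exists_qp G V hirr hf with h | ⟨K, i1, i2, i3, ⟨S⟩⟩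
  · exact absurd (imp_seven G V hirr hc hj hN h) hd
  have hqm : Nat.card K ^ Module.finrank K V = 3 ^ j := by rw [← hc]; exact QP.card_V_eq.symm
  have hm0 : 1 ≤ Module.finrank K V := Module.finrank_pos
  obtain ⟨f, hKf, hfm⟩ := pow_eq_prime_pow Nat.prime_three (by omega) hqm
  have hf1 : 1 ≤ f := by
    by_contra h0
    obtain rfl : f = 0 := by omega
    have := exp_pos hirr hc
    omega
  have h7 : dser (⊤ : Subgroup G) 7 ≠ ⊥ := by
    intro h
    exact hd fun g hg x => by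
      rw [h, mem_bot] at hg
      rw [hg, one_smul]
  have key : ∀ N' ∈ S.Mn, dser (⊤ : Subgroup G) 6 ≤ cenMod S.U N' ∧ (dser (⊤ : Subgroup G) 5 ≤ cenMod S.U N' ∨
      (S.U.relIndex N' = 64 ∧ 8 ≤ Module.finrank K V ∧ 2 ∣ Nat.card S.U ∧ 81 ∣ Nat.card G)) := by
    intro N' hN'
    have hn := hN'.1
    obtain ⟨X, j1, j2, j3, hXirr, hXc, hX⟩ := S.mn_mod hN'
    obtain ⟨r, c, hr, hc0, hrc⟩ := (isPrimePow_nat_iff _).1 hXirr.isPrimePow
    obtain ⟨g, hg⟩ := S.mn_sq hN'
    obtain ⟨i, rfl, hic⟩ := pow_eq_prime_pow (w := g) (k := 2) (a := c) hr (by norm_num) (by rw [← hg, hrc, hXc])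
    have hrel := S.relIndex_mn hN'
    have hrs : r ^ c ∣ S.s := by rw [hrc, hXc]; exact hrel.1
    obtain ⟨p1, p2⟩ := S.prime_dvd hr ((dvd_pow_self r (by omega)).trans hrs)
    have hle : r ^ i ≤ Module.finrank K V := by
      have h7 : (r ^ i) ^ 2 ≤ Module.finrank K V ^ 2 := by
        rw [← hg]
        exact (Nat.le_of_dvd S.s_pos hrel.1).trans S.s_le'
      exact (Nat.pow_le_pow_iff_left (by norm_num)).1 h7
    obtain rfl : r = 2 := qp_num hr (by omega) hf1 hm0 p2 (by rw [← hKf]; exact p1.trans S.card_U_dvd)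
    have hm15 : Module.finrank K V ≤ 15 := le_trans (Nat.le_mul_of_pos_left _ hf1) (by omega)
    have hi3 : i ≤ 3 := by
      by_contra hlt
      have : 2 ^ 4 ≤ 2 ^ i := Nat.pow_le_pow_right (by norm_num) (by omega)
      omega
    have hdv : Nat.card (Im G X) ∣ Nat.card G := Subgroup.card_dvd_of_surjective _ toIm_surjective
    refine ⟨(DL.iff_le hX).1 (tabA_valid.dl G X hXirr Nat.prime_two (k := 6) (by omega) hrc.symm (hdv.trans hN)
      (by decide +kernel)), ?_⟩
    by_cases hi : i = 3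
    · by_cases h81 : 81 ∣ Nat.card G
      · subst hi
        exact Or.inr ⟨by rw [hg]; norm_num, hle, p1, h81⟩
      · exact Or.inl ((DL.iff_le hX).1 (tabA_valid.dl G X hXirr Nat.prime_two (k := 6) (by omega) hrc.symm
          (hdv.trans (NB_three hN h81)) (by decide +kernel)))
    · exact Or.inl ((DL.iff_le hX).1 (tabA_valid.dl G X hXirr Nat.prime_two (k := 4) (by omega) hrc.symm
        (hdv.trans hN) (by decide +kernel)))
  have h6E : dser (⊤ : Subgroup G) 6 ≤ S.E := S.dser_le_E (by norm_num) fun N' hN' => (key N' hN').1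
  obtain ⟨N, hNm, hN5⟩ : ∃ N ∈ S.Mn, ¬ dser (⊤ : Subgroup G) 5 ≤ cenMod S.U N := by
    by_contra hne
    push Not at hne
    exact h7 (S.dser_top_eq_bot (S.dser_le_E (k := 5) (by norm_num) hne))
  have hNn := hNm.1
  obtain ⟨h64, h8, hU2, h81⟩ := (key N hNm).2.resolve_left hN5
  obtain rfl : f = 1 := by
    by_contra hne
    have : 2 * 8 ≤ f * Module.finrank K V := Nat.mul_le_mul (by omega) h8
    omega
  rw [pow_one] at hKf
  have hUc : Nat.card S.U = 2 := by
    have h1 := S.card_U_dvd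
    rw [hKf] at h1
    exact Nat.dvd_antisymm h1 hU2
  have hs : S.s = 64 := by
    obtain ⟨e, he⟩ := S.exists_sq
    have h1 := (S.relIndex_mn hNm).1
    have h2 := S.s_le'
    have h3 := S.s_pos
    rw [h64] at h1
    rw [he] at h1 h2 h3 ⊢
    have h4 : e ≤ 15 := le_trans ((Nat.pow_le_pow_iff_left (by norm_num)).1 h2) (by omega)
    interval_cases e <;> first | rfl | (exfalso; omega)
  have hEN : N = S.E := by
    refine eq_of_le_of_card_ge (S.Mn_le_E hNm) (le_of_eq ?_)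
    rw [← card_mul_relIndex S.U_le_E, ← card_mul_relIndex hNm.2.1.le, h64]
    exact congrArg _ hs
  have h7U : dser (⊤ : Subgroup G) 7 = S.U := by
    have h1 : dser (⊤ : Subgroup G) 7 ≤ S.U := (commutator_mono h6E h6E).trans S.E_comm
    refine eq_of_le_of_card_ge h1 ?_
    rw [hUc]
    exact (one_lt_card_iff_ne_bot _).2 h7
  have h6N : dser (⊤ : Subgroup G) 6 = N := by
    refine hNm.2.2.2 _ inferInstance (lt_of_le_of_ne (h7U ▸ dser_succ_le _ 6) fun h => h7 ?_) (hEN ▸ h6E)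
    rw [dser_succ, ← h]
    exact dser_one_of_comm fun a ha b hb => S.U_comm ha hb
  obtain ⟨⟨z, hz⟩, hz1, huniq⟩ := (Nat.card_eq_two_iff' (1 : S.U)).1 hUc
  have hU : ∀ g ∈ S.U, g = 1 ∨ g = z := by
    intro g hg
    by_cases h : g = 1
    · exact Or.inl h
    · exact Or.inr (congrArg Subtype.val (huniq ⟨g, hg⟩ fun h1 => h (congrArg Subtype.val h1)))
  have hU2' : ∀ g ∈ S.U, g * g = 1 := by
    intro g hg
    have h1 := pow_card_eq_one' (x := (⟨g, hg⟩ : S.U))
    rw [hUc, pow_two] at h1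
    exact congrArg Subtype.val h1
  have hneg : ∀ v : V, z • v = -v := by
    intro v
    have h1 : ((S.ι ⟨z, hz⟩ : Kˣ) : K) * ((S.ι ⟨z, hz⟩ : Kˣ) : K) = 1 := by
      rw [← Units.val_mul, ← map_mul, show (⟨z, hz⟩ * ⟨z, hz⟩ : S.U) = 1 from Subtype.ext (hU2' z hz), map_one,
        Units.val_one]
    rcases mul_self_eq_one_iff.1 h1 with h2 | h2
    · exact absurd (S.ι_injective (by rw [map_one]; exact Units.ext h2)) hz1
    · rw [S.ι_spec ⟨z, hz⟩, h2, neg_smul, one_smul]
  refine ⟨z, hneg, h7U ▸ hz, h7U ▸ hU, ?_, ?_, ?_, h81, ?_⟩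
  · rw [h6N, ← card_mul_relIndex hNm.2.1.le, h64, hUc]
  · intro L hL h1 h2
    rw [h7U] at h1
    rw [h6N] at h2 ⊢
    by_cases h3 : S.U = L ⊓ N
    · exfalso
      refine hN5 ((dser_succ_le _ 4).trans (le_cenMod_iff.2 ?_))
      rw [h3]
      exact le_inf h2 (commutator_le_right _ _)
    · have h4 := hNm.2.2.2 (L ⊓ N) inferInstance (lt_of_le_of_ne (le_inf h1 hNm.2.1.le) h3) inf_le_right
      rw [← h4]
      exact inf_le_left
  · intro g hg
    rw [h7U, ← S.centralizer_E, mem_centralizer_iff]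
    intro y hy
    have h1 := S.comm_mem_U S.E_comm (h6E hg) hy
    have h2 := S.A_comm_U (S.E_le_A (h6E hg)) h1
    have h3 := hU2' _ h1
    generalize hu : g * y * g⁻¹ * y⁻¹ = u at h1 h2 h3
    have h4 : g * y = u * y * g := by rw [← hu]; group
    calc y * g ^ 2 = (u * u) * y * g * g := by rw [h3, one_mul, pow_two, mul_assoc]
      _ = u * (u * y * g) * g := by group
      _ = (g * u) * y * g := by rw [← h4, h2]; group
      _ = g ^ 2 * y := by rw [pow_two, mul_assoc g g, h4]; group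
  · intro W hW hW0
    rw [h6N, hEN] at hW
    have hK : ∀ κ : K, κ = 0 ∨ κ = 1 ∨ κ = -1 := by
      intro κ
      by_cases h0 : κ = 0
      · exact Or.inl h0
      · right
        letI := Fintype.ofFinite K
        have h1 := FiniteField.pow_card_sub_one_eq_one κ h0
        rw [← Nat.card_eq_fintype_card, hKf, pow_two] at h1
        exact mul_self_eq_one_iff.1 h1
    let W' : Submodule K V :=
      { W.toAddSubmonoid with
        smul_mem' := by
          intro κ w hw
          rcases hK κ with rfl | rfl | rfl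
          · rw [zero_smul]; exact W.zero_mem
          · rw [one_smul]; exact hw
          · rw [neg_smul, one_smul]; exact W.neg_mem hw }
    haveI : Nontrivial W' := (AddSubgroup.nontrivial_iff_ne_bot W).2 hW0
    haveI : Finite W' := inferInstance
    haveI : Module.Finite K W' := Module.Finite.of_finite
    let θ : S.E →* Module.End K W' :=
      { toFun := fun b => (S.θ ⟨b, S.E_le_A b.2⟩).restrict fun w hw => hW b b.2 w hw
        map_one' := LinearMap.ext fun v => Subtype.ext (one_smul G (v : V))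
        map_mul' := fun b c => LinearMap.ext fun v => Subtype.ext (mul_smul (b : G) (c : G) (v : V)) }
    let e := Subgroup.subgroupOfEquivOfLe S.U_le_E
    have h1 := Cfsg.Agent.H348.Trans.index_le_sq θ (S.U.subgroupOf S.E) (S.ι.comp e.toMonoidHom)
      (S.ι_injective.comp e.injective) (fun a v => Subtype.ext (S.ι_spec (e a) v))
      (fun x y => S.comm_mem_U S.E_comm x.2 y.2) (by
        intro a
        rw [Subgroup.mem_subgroupOf]
        constructor
        · intro ha c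
          exact Subtype.ext (S.A_comm_U (S.E_le_A c.2) ha)
        · intro h
          rw [← S.centralizer_E, mem_centralizer_iff]
          intro c hc
          exact congrArg Subtype.val (h ⟨c, hc⟩))
    change S.s ≤ _ at h1
    rw [hs] at h1
    have h2 : 8 ≤ Module.finrank K W' := (Nat.pow_le_pow_iff_left (n := 2) (by norm_num)).1 h1
    have h3 : Nat.card W = Nat.card K ^ Module.finrank K W' := Module.natCard_eq_pow_finrank (K := K) (V := W')
    rw [h3, hKf]
    exact Nat.pow_le_pow_right (by norm_num) h2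

end Cfsg.Agent.DS.Sp
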