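import Mathlib
import Cfsg.Agent.DS.Sp.Phi

/-!
# Chief factors of order at most `3 ^ 15` whose automizer has derived length at least `8` (helper57)
-/

set_option autoImplicit false
set_option linter.style.haveILetI false
set_option linter.unusedSectionVars false

namespace Cfsg.Agent.DS.Sp

open Subgroup Cfsg.Agent.H511.Wt Cfsg.Agent.DS.Ord
open scoped Pointwise commutatorElement

/-- an abelian section as a module, with the projection -/
theorem exists_modp {G : Type} [Group G] [Finite G] (C T : Subgroup G) [C.Normal] [hT : T.Normal]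
    (hcomm : ⁅T, T⁆ ≤ C) :
    ∃ (X : Type) (_ : AddCommGroup X) (_ : Finite X) (_ : DistribMulAction G X) (φ : T →* Multiplicative X),
      Function.Surjective φ ∧ φ.ker = C.subgroupOf T ∧
      ∀ (g : G) (t : T), (φ ⟨g * t * g⁻¹, hT.conj_mem _ t.2 g⟩).toAdd = g • (φ t).toAdd := by
  set π := QuotientGroup.mk' C with hπ
  have hπs : Function.Surjective π := QuotientGroup.mk'_surjective C
  haveI hn1 : (T.map π).Normal := Normal.map inferInstance π hπs
  have hc : ∀ a ∈ T.map π, ∀ b ∈ T.map π, a * b = b * a := by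
    rintro _ ⟨a, ha, rfl⟩ _ ⟨b, hb', rfl⟩
    have h2 : π ⁅a, b⁆ = 1 := (QuotientGroup.eq_one_iff _).2 (hcomm (commutator_mem_commutator ha hb'))
    rwa [map_commutatorElement, commutatorElement_eq_one_iff_mul_comm] at h2
  letI i1 := addOf (T.map π) hc
  letI i2 := actOf (T.map π) hc
  haveI : Finite (Additive (T.map π)) := inferInstanceAs (Finite (T.map π))
  letI := DistribMulAction.compHom (Additive (T.map π)) π
  let φ : T →* Multiplicative (Additive (T.map π)) :=
    { toFun := fun t => Multiplicative.ofAdd (Additive.ofMul ⟨π t, t, t.2, rfl⟩)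
      map_one' := congrArg Multiplicative.ofAdd (congrArg Additive.ofMul (Subtype.ext (map_one π)))
      map_mul' := fun a b => congrArg Multiplicative.ofAdd (congrArg Additive.ofMul (Subtype.ext (map_mul π (a : G) b))) }
  refine ⟨Additive (T.map π), i1, inferInstance, inferInstance, φ, ?_, ?_, ?_⟩
  · rintro ⟨_, t, ht, rfl⟩
    exact ⟨⟨t, ht⟩, rfl⟩
  · ext t
    rw [MonoidHom.mem_ker, mem_subgroupOf, ← QuotientGroup.eq_one_iff]
    exact ⟨fun h => congrArg (fun x : Multiplicative (Additive (T.map π)) => ((x.toAdd.toMul : T.map π) : G ⧸ C)) h,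
      fun h => congrArg Multiplicative.ofAdd (congrArg Additive.ofMul (Subtype.ext h))⟩
  · intro g t
    refine congrArg Additive.ofMul (Subtype.ext ?_)
    change π (g * t * g⁻¹) = π g * π t * (π g)⁻¹
    rw [map_mul, map_mul, map_inv]

section modp

variable {G : Type} [Group G] [Finite G] {C T : Subgroup G} [C.Normal] [hT : T.Normal] {X : Type} [AddCommGroup X]
  [DistribMulAction G X] {φ : T →* Multiplicative X} (hs : Function.Surjective φ) (hk : φ.ker = C.subgroupOf T)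
  (he : ∀ (g : G) (t : T), (φ ⟨g * t * g⁻¹, hT.conj_mem _ t.2 g⟩).toAdd = g • (φ t).toAdd)

include hs hk in
theorem modp_card (L : Subgroup G) (hL : L ≤ T) :
    Nat.card (AddSubgroup.toSubgroup.symm ((L.subgroupOf T).map φ)) = C.relIndex L := by
  change Nat.card ((L.subgroupOf T).map φ) = _
  rw [← relIndex_ker, hk, relIndex_subgroupOf hL]

include hs hk he in
theorem modp_ker (g : G) : (∀ x : X, g • x = x) ↔ g ∈ cenMod C T := by
  rw [mem_cenMod]
  constructor
  · intro h t ht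
    have h1 : (⟨g * t * g⁻¹, hT.conj_mem _ ht g⟩ * ⟨t, ht⟩⁻¹ : T) ∈ φ.ker := by
      rw [MonoidHom.mem_ker, map_mul, map_inv, mul_inv_eq_one]
      apply Multiplicative.toAdd.injective
      rw [he g ⟨t, ht⟩, h]
    rw [hk] at h1
    exact h1
  · intro h x
    obtain ⟨t, ht⟩ := hs (Multiplicative.ofAdd x)
    have h1 : (⟨g * t * g⁻¹, hT.conj_mem _ t.2 g⟩ * t⁻¹ : T) ∈ φ.ker := by
      rw [hk]
      exact h t t.2
    rw [MonoidHom.mem_ker, map_mul, map_inv, mul_inv_eq_one] at h1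
    have h2 := he g t
    rw [h1, ht] at h2
    exact h2.symm

include hs hk he in
theorem modp_irr (hCT : C < T) (hmin : ∀ N : Subgroup G, N.Normal → C < N → N ≤ T → N = T) : Irr G X := by
  refine ⟨?_, fun W hW => ?_⟩
  · obtain ⟨t, ht, htC⟩ := SetLike.exists_of_lt hCT
    refine ⟨(φ ⟨t, ht⟩).toAdd, 0, fun h => htC ?_⟩
    have h1 : (⟨t, ht⟩ : T) ∈ φ.ker := h
    rw [hk] at h1
    exact h1
  · set L := ((AddSubgroup.toSubgroup W).comap φ).map T.subtype with hL
    have hLn : L.Normal := by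
      refine ⟨?_⟩
      rintro _ ⟨t, ht, rfl⟩ g
      refine ⟨⟨g * t * g⁻¹, hT.conj_mem _ t.2 g⟩, ?_, rfl⟩
      change (φ _).toAdd ∈ W
      rw [he]
      exact hW g _ ht
    have hCL : C ≤ L := by
      intro c hc
      refine ⟨⟨c, hCT.le hc⟩, ?_, rfl⟩
      have h1 : (⟨c, hCT.le hc⟩ : T) ∈ φ.ker := by
        rw [hk]
        exact hc
      change (φ _).toAdd ∈ W
      rw [MonoidHom.mem_ker.1 h1]
      exact W.zero_mem
    rcases hCL.eq_or_lt with h | h
    · left
      rw [eq_bot_iff]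
      intro x hx
      obtain ⟨t, ht⟩ := hs (Multiplicative.ofAdd x)
      have h1 : (t : G) ∈ L := ⟨t, by change (φ t).toAdd ∈ W; rw [ht]; exact hx, rfl⟩
      rw [← h, ← mem_subgroupOf, ← hk, MonoidHom.mem_ker, ht] at h1
      exact h1
    · right
      have h1 := hmin L hLn h (map_subtype_le _)
      rw [eq_top_iff]
      intro x _
      obtain ⟨t, ht⟩ := hs (Multiplicative.ofAdd x)
      have h2 : (t : G) ∈ L := by rw [h1]; exact t.2
      obtain ⟨t', ht', h3⟩ := h2
      obtain rfl : t' = t := Subtype.ext h3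
      have h4 : (φ t').toAdd ∈ W := ht'
      rwa [ht] at h4

end modp

/-- the structure of the automizer -/
structure PhiG {Y : Type} [Group Y] (C T : Subgroup Y) [C.Normal] (z : Y) : Prop where
  neg : ∀ t ∈ T, z * t * z⁻¹ * t ∈ C
  mem : z ∈ dser (⊤ : Subgroup Y) 7
  sev : ∀ g ∈ dser (⊤ : Subgroup Y) 7, g ∈ cenMod C T ∨ z⁻¹ * g ∈ cenMod C T
  card : (cenMod C T).relIndex (dser (⊤ : Subgroup Y) 6) = 128
  min : ∀ L : Subgroup Y, L.Normal → cenMod C T ≤ L → dser (⊤ : Subgroup Y) 7 ≤ L →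
    ⁅dser (⊤ : Subgroup Y) 4, dser (⊤ : Subgroup Y) 6⁆ ≤ L → dser (⊤ : Subgroup Y) 6 ≤ L
  sq : ∀ g ∈ dser (⊤ : Subgroup Y) 6, g ^ 2 ∈ cenMod C T ∨ z⁻¹ * g ^ 2 ∈ cenMod C T
  dvd : 81 ∣ (cenMod C T).index
  big : ∀ L : Subgroup Y, C < L → L ≤ T → dser (⊤ : Subgroup Y) 6 ≤ normalizer (L : Set Y) → 3 ^ 8 ≤ C.relIndex L

theorem phi_grp {Y : Type} [Group Y] [Finite Y] [Group.IsSolvable Y] (hN : Nat.card Y ∣ NB) (C T : Subgroup Y)
    [C.Normal] [hT : T.Normal] (hCT : C < T) (hmin : ∀ N : Subgroup Y, N.Normal → C < N → N ≤ T → N = T)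
    (hcomm : ⁅T, T⁆ ≤ C) {j : ℕ} (hc : C.relIndex T = 3 ^ j) (hj : j ≤ 15)
    (hd : ¬ dser (⊤ : Subgroup Y) 7 ≤ cenMod C T) : ∃ z, PhiG C T z := by
  obtain ⟨X, i1, i2, i3, φ, hs, hk, he⟩ := exists_modp C T hcomm
  have hirr := modp_irr hs hk he hCT hmin
  have hX := modp_ker hs hk he
  have hcX : Nat.card X = 3 ^ j := by
    rw [← hc, ← modp_card hs hk T le_rfl, subgroupOf_self, ← MonoidHom.range_eq_map, φ.range_eq_top_of_surjective hs]
    exact (AddSubgroup.card_top (G := X)).symm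
  haveI : Group.IsSolvable (Im Y X) := range_solvable
  have hsurj : Function.Surjective (toIm Y X) := toIm_surjective
  obtain ⟨z', h⟩ := phi_mod (Im Y X) X hirr.range range_faithful hcX hj
    ((Subgroup.card_dvd_of_surjective _ hsurj).trans hN) fun h => hd ((DL.iff_le hX).1 h.of_range)
  have hker : (toIm Y X).ker = cenMod C T := by
    ext g
    rw [MonoidHom.mem_ker, ← hX]
    exact ⟨fun h x => by rw [← toIm_smul, h, one_smul], fun h => range_faithful _ h⟩
  have hmap : ∀ n, (dser (⊤ : Subgroup Y) n).map (toIm Y X) = dser ⊤ n := fun n => by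
    rw [map_dser, ← MonoidHom.range_eq_map, (toIm Y X).range_eq_top_of_surjective hsurj]
  have hz := h.mem
  rw [← hmap] at hz
  obtain ⟨z, hz, rfl⟩ := hz
  have hsev : ∀ g : Y, toIm Y X g ∈ dser (⊤ : Subgroup (Im Y X)) 7 → g ∈ cenMod C T ∨ z⁻¹ * g ∈ cenMod C T := by
    intro g hg
    rw [← hker, MonoidHom.mem_ker, MonoidHom.mem_ker, map_mul, map_inv, inv_mul_eq_one]
    exact (h.sev _ hg).imp id Eq.symm
  refine ⟨z, ?_, hz, fun g hg => hsev g (hmap 7 ▸ ⟨g, hg, rfl⟩), ?_, ?_, ?_, ?_, ?_⟩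
  · intro t ht
    have h1 : (⟨z * t * z⁻¹, hT.conj_mem _ ht z⟩ * ⟨t, ht⟩ : T) ∈ φ.ker := by
      rw [MonoidHom.mem_ker, map_mul]
      apply Multiplicative.toAdd.injective
      rw [toAdd_mul, he z ⟨t, ht⟩, ← toIm_smul, h.neg, neg_add_cancel, toAdd_one]
    rw [hk] at h1
    exact h1
  · rw [← hker, relIndex_ker, hmap, h.card]
  · intro L hL h1 h2 h3
    have h4 := h.min (L.map (toIm Y X)) (hL.map _ hsurj) (by rw [← hmap]; exact map_mono h2)
      (by rw [← hmap, ← hmap, ← map_commutator]; exact map_mono h3)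
    rw [← hmap, map_le_iff_le_comap, comap_map_eq_self (hker ▸ h1)] at h4
    exact h4
  · intro g hg
    refine hsev _ ?_
    rw [map_pow]
    exact h.sq _ (hmap 6 ▸ ⟨g, hg, rfl⟩)
  · rw [← card_im hX]
    exact h.dvd
  · intro L hCL hLT hL
    rw [← modp_card hs hk L hLT]
    refine h.big _ ?_ ?_
    · intro g hg w hw
      rw [← hmap] at hg
      obtain ⟨g, hg, rfl⟩ := hg
      obtain ⟨t, ht, h1⟩ := hw
      refine ⟨⟨g * t * g⁻¹, hT.conj_mem _ t.2 g⟩, (mem_normalizer_iff.1 (hL hg) _).1 ht, ?_⟩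
      apply Multiplicative.toAdd.injective
      rw [he, h1]
      rfl
    · intro h0
      obtain ⟨t, ht, htC⟩ := SetLike.exists_of_lt hCL
      have h1 : (φ ⟨t, hLT ht⟩).toAdd ∈ AddSubgroup.toSubgroup.symm ((L.subgroupOf T).map φ) := ⟨⟨t, hLT ht⟩, ht, rfl⟩
      rw [h0, AddSubgroup.mem_bot] at h1
      have h2 : (⟨t, hLT ht⟩ : T) ∈ φ.ker := h1
      rw [hk] at h2
      exact htC h2

end Cfsg.Agent.DS.Sp
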