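import Mathlib
import Cfsg.Agent.DS.Sp.PhiG
import Cfsg.Agent.DS.Sp.PhiE

/-!
# Tools for the `3`-constrained solvable groups with a chief factor of type `Phi` (helper57)
-/

set_option autoImplicit false
set_option linter.style.haveILetI false
set_option linter.unusedSectionVars false

namespace Cfsg.Agent.DS.Sp

open Subgroup Cfsg.Agent.H511.Wt Cfsg.Agent.DS.Ord
open scoped Pointwise commutatorElement

section basic

variable {Y : Type*} [Group Y]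

theorem comm_sup_le {A B Z M : Subgroup Y} [M.Normal] (h1 : ⁅A, Z⁆ ≤ M) (h2 : ⁅B, Z⁆ ≤ M) : ⁅A ⊔ B, Z⁆ ≤ M :=
  le_cenMod_iff.1 (sup_le (le_cenMod_iff.2 h1) (le_cenMod_iff.2 h2))

theorem dser_sup_le {A B N : Subgroup Y} [A.Normal] [B.Normal] [N.Normal] (h : ⁅A, B⁆ ≤ N) (n : ℕ) :
    dser (A ⊔ B) n ≤ dser A n ⊔ dser B n ⊔ N := by
  induction n with
  | zero => exact le_sup_left
  | succ n ih =>
    have h1 : ⁅dser A n, dser B n⁆ ≤ dser A (n + 1) ⊔ dser B (n + 1) ⊔ N :=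
      ((commutator_mono (dser_le A n) (dser_le B n)).trans h).trans le_sup_right
    have h2 : ∀ X : Subgroup Y, ⁅N, X⁆ ≤ dser A (n + 1) ⊔ dser B (n + 1) ⊔ N := fun X =>
      (commutator_le_left N X).trans le_sup_right
    refine (commutator_mono ih ih).trans (comm_sup_le (comm_sup_le ?_ ?_) (h2 _))
    · rw [commutator_comm]
      exact comm_sup_le (comm_sup_le (le_sup_left.trans le_sup_left) (by rw [commutator_comm]; exact h1)) (h2 _)
    · rw [commutator_comm]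
      exact comm_sup_le (comm_sup_le h1 (le_sup_right.trans le_sup_left)) (h2 _)

theorem cenMod_bot (V : Subgroup Y) : cenMod ⊥ V = centralizer (V : Set Y) := by
  ext g
  rw [mem_cenMod, mem_centralizer_iff]
  refine forall₂_congr fun v _ => ?_
  rw [mem_bot, commutatorElement_eq_one_iff_mul_comm, eq_comm]

theorem mem_of_sq_mem {P H : Subgroup Y} (hP : IsPGroup 3 P) {p : Y} (hp : p ∈ P) (h : p * p ∈ H) : p ∈ H := by
  obtain ⟨k, hk⟩ := hP ⟨p, hp⟩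
  have h1 : p ^ 3 ^ k = 1 := congrArg Subtype.val hk
  obtain ⟨m, hm⟩ : Odd (3 ^ k) := Odd.pow (by decide)
  have h2 : p = (p * p) ^ (m + 1) := by
    rw [← pow_two, ← pow_mul, show 2 * (m + 1) = 3 ^ k + 1 by omega, pow_succ, h1, one_mul]
  rw [h2]
  exact H.pow_mem h _

theorem inf_sup_le {L T V : Subgroup Y} [V.Normal] (h : V ≤ L) : L ⊓ (T ⊔ V) ≤ (L ⊓ T) ⊔ V := by
  rintro x ⟨hx, hx'⟩
  obtain ⟨t, ht, v, hv, rfl⟩ := (mem_sup_of_normal_right).1 hx'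
  exact mul_mem_sup ⟨by simpa using L.mul_mem hx (L.inv_mem (h hv)), ht⟩ hv

theorem sup_inf_le {C T V : Subgroup Y} [V.Normal] (h : C ≤ T) (h' : V ⊓ T ≤ C) : (C ⊔ V) ⊓ T ≤ C := by
  rintro x ⟨hx', hx⟩
  obtain ⟨c, hc, v, hv, rfl⟩ := (mem_sup_of_normal_right).1 hx'
  exact C.mul_mem hc (h' ⟨hv, by simpa using T.mul_mem (T.inv_mem (h hc)) hx⟩)

theorem comm_mul_central {a b u w : Y} (h2 : u * b = b * u) (h3 : w * a = a * w)
    (h5 : u * w = w * u) (h6 : u * ⁅a, b⁆ = ⁅a, b⁆ * u) (h7 : w * ⁅a, b⁆ = ⁅a, b⁆ * w) : ⁅u * a, w * b⁆ = ⁅a, b⁆ := by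
  have e2 : u⁻¹ * b⁻¹ = b⁻¹ * u⁻¹ := by rw [← mul_inv_rev, ← mul_inv_rev, h2]
  calc ⁅u * a, w * b⁆ = u * (a * w) * (b * a⁻¹) * (u⁻¹ * b⁻¹) * w⁻¹ := by rw [commutatorElement_def]; group
    _ = u * (w * ⁅a, b⁆) * u⁻¹ * w⁻¹ := by rw [e2, ← h3, commutatorElement_def]; group
    _ = (u * ⁅a, b⁆) * (w * u⁻¹ * w⁻¹) := by rw [h7]; group
    _ = ⁅a, b⁆ * ((u * w) * u⁻¹ * w⁻¹) := by rw [h6]; group
    _ = ⁅a, b⁆ := by rw [h5]; group

/-- an element that is trivial on `P` modulo a central subgroup centralizes `P'` -/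
theorem cent_comm_of {P V : Subgroup Y} {g : Y} (hVP : V ≤ P) (hV : P ≤ centralizer (V : Set Y))
    (h : ∀ a ∈ P, g * a * g⁻¹ * a⁻¹ ∈ V) : ⁅P, P⁆ ≤ centralizer {g} := by
  rw [commutator_le]
  intro a ha b hb
  rw [mem_centralizer_singleton_iff]
  have h1 := fun x (hx : x ∈ P) => mem_centralizer_iff.1 (hV hx) _ (h a ha)
  have h2 := fun x (hx : x ∈ P) => mem_centralizer_iff.1 (hV hx) _ (h b hb)
  have hc : ⁅a, b⁆ ∈ P := commutator_self_le P (commutator_mem_commutator ha hb)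
  have h5 := comm_mul_central (h1 b hb) (h2 a ha) (h1 _ (hVP (h b hb))) (h1 _ hc) (h2 _ hc)
  rw [inv_mul_cancel_right, inv_mul_cancel_right, ← conjugate_commutatorElement] at h5
  calc ⁅a, b⁆ * g = g * ⁅a, b⁆ * g⁻¹ * g := by rw [h5]
    _ = g * ⁅a, b⁆ := by group

/-- the same for an element that inverts `P` modulo a central subgroup -/
theorem cent_comm_of_neg {P V : Subgroup Y} {g : Y} (hVP : V ≤ P) (hV : P ≤ centralizer (V : Set Y))
    (hPP : ⁅P, P⁆ ≤ V) (h : ∀ a ∈ P, g * a * g⁻¹ * a ∈ V) : ⁅P, P⁆ ≤ centralizer {g} := by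
  rw [commutator_le]
  intro a ha b hb
  rw [mem_centralizer_singleton_iff]
  have h1 := fun x (hx : x ∈ P) => mem_centralizer_iff.1 (hV hx) _ (h a ha)
  have h2 := fun x (hx : x ∈ P) => mem_centralizer_iff.1 (hV hx) _ (h b hb)
  have hc : ⁅a⁻¹, b⁻¹⁆ ∈ P := commutator_self_le P (commutator_mem_commutator (P.inv_mem ha) (P.inv_mem hb))
  have h5 := comm_mul_central (h1 _ (P.inv_mem hb)) (h2 _ (P.inv_mem ha)) (h1 _ (hVP (h b hb))) (h1 _ hc) (h2 _ hc)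
  rw [mul_inv_cancel_right, mul_inv_cancel_right, ← conjugate_commutatorElement] at h5
  have h6 := mem_centralizer_iff.1 (hV (P.mul_mem ha hb)) _ (hPP (commutator_mem_commutator ha hb))
  have h7 : ⁅a⁻¹, b⁻¹⁆ = ⁅a, b⁆ := by
    calc ⁅a⁻¹, b⁻¹⁆ = (a * b)⁻¹ * ((a * b) * ⁅a⁻¹, b⁻¹⁆) := by group
      _ = (a * b)⁻¹ * (⁅a, b⁆ * (a * b)) := by rw [commutatorElement_def, commutatorElement_def]; group
      _ = ⁅a, b⁆ := by rw [h6]; group
  rw [h7] at h5
  calc ⁅a, b⁆ * g = g * ⁅a, b⁆ * g⁻¹ * g := by rw [h5]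
    _ = g * ⁅a, b⁆ := by group

theorem exists_D [Finite Y] {B K : Subgroup Y} (h : K.relIndex B = 128) :
    ∃ D : Subgroup Y, D ≤ B ∧ IsPGroup 2 D ∧ 2 ^ 7 ∣ Nat.card D ∧ B ≤ D ⊔ (K ⊓ B) := by
  haveI : Fact (Nat.Prime 2) := ⟨Nat.prime_two⟩
  obtain ⟨D⟩ : Nonempty (Sylow 2 B) := inferInstance
  refine ⟨(D : Subgroup B).map B.subtype, map_subtype_le _, D.isPGroup'.map _, ?_, ?_⟩
  · rw [card_map_of_injective B.subtype_injective]
    exact D.pow_dvd_card_of_pow_dvd_card ((dvd_of_eq h.symm).trans (relIndex_dvd_card K B))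
  · have h1 : ((D : Subgroup B) ⊔ K.subgroupOf B).index ∣ 2 ^ 7 :=
      (index_dvd_of_le le_sup_right).trans (dvd_of_eq h)
    obtain ⟨i, _, hi⟩ := (Nat.dvd_prime_pow Nat.prime_two).1 h1
    have h2 : i = 0 := by
      by_contra h0
      exact D.not_dvd_index ((dvd_pow_self 2 h0).trans (hi ▸ index_dvd_of_le le_sup_left))
    rw [h2, pow_zero, index_eq_one] at hi
    conv_lhs => rw [← B.range_subtype, MonoidHom.range_eq_map, ← hi, Subgroup.map_sup, subgroupOf_map_subtype]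

end basic

section chief

variable {Y : Type} [Group Y] [Finite Y] [Group.IsSolvable Y]

theorem chief_comm {C T : Subgroup Y} [C.Normal] [T.Normal] (hCT : C < T)
    (hmin : ∀ L : Subgroup Y, L.Normal → C < L → L ≤ T → L = T) : ⁅T, T⁆ ≤ C := by
  by_contra h
  have h1 := hmin (C ⊔ ⁅T, T⁆) inferInstance (lt_of_le_of_ne le_sup_left fun h1 => h (h1 ▸ le_sup_right))
    (sup_le hCT.le (commutator_self_le T))
  have h2 : T.map (QuotientGroup.mk' C) = ⊥ := by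
    refine eq_bot_of_perfect ?_
    conv_lhs => rw [← h1, Subgroup.map_sup, (Subgroup.map_eq_bot_iff C).2 (QuotientGroup.ker_mk' C).ge, bot_sup_eq,
      map_commutator]
  rw [Subgroup.map_eq_bot_iff, QuotientGroup.ker_mk'] at h2
  exact hCT.not_ge h2

theorem le_cenMod_chief {P C T : Subgroup Y} [P.Normal] [C.Normal] [T.Normal] (hP : IsPGroup 3 P) (hTP : T ≤ P)
    (hCT : C < T) (hmin : ∀ L : Subgroup Y, L.Normal → C < L → L ≤ T → L = T) : P ≤ cenMod C T := by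
  haveI : Fact (Nat.Prime 3) := ⟨Nat.prime_three⟩
  obtain ⟨j, hj⟩ := relIndex_pow (C := C) (hP.to_le hTP)
  obtain ⟨V, j1, j2, j3, hirr, hc, hV⟩ := exists_mod C T hCT hmin (chief_comm hCT hmin)
  exact fun g hg => (hV g).1 (irr_pcore hirr Nat.prime_three (hc.trans hj) P hP g hg)

theorem six_le_cenMod (hN : Nat.card Y ∣ NB) {C T : Subgroup Y} [C.Normal] [T.Normal] (hT : IsPGroup 3 T)
    (hCT : C < T) (hmin : ∀ L : Subgroup Y, L.Normal → C < L → L ≤ T → L = T) (h : C.relIndex T < 3 ^ 8) :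
    dser (⊤ : Subgroup Y) 6 ≤ cenMod C T := by
  haveI : Fact (Nat.Prime 3) := ⟨Nat.prime_three⟩
  obtain ⟨j, hj⟩ := relIndex_pow (C := C) hT
  have h1 : j < 8 := (Nat.pow_lt_pow_iff_right (by norm_num)).1 (hj ▸ h)
  exact tabA_valid.chB Y Nat.prime_three (k := 7) (N := NB) (by decide +kernel) C T hCT hmin (chief_comm hCT hmin) j
    (by omega) hj ((index_dvd_card _).trans hN)

/-- either a large chief factor, or trivial action -/
theorem big_or (hN : Nat.card Y ∣ NB) (F U : Subgroup Y) [F.Normal] [U.Normal] (hU : IsPGroup 3 U) (hFU : F ≤ U) :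
    (∃ (C T : Subgroup Y) (_ : C.Normal) (_ : T.Normal), F ≤ C ∧ C < T ∧ T ≤ U ∧
      (∀ L : Subgroup Y, L.Normal → C < L → L ≤ T → L = T) ∧ 3 ^ 8 ≤ C.relIndex T) ∨
    ∀ A : Subgroup Y, (Nat.card A).Coprime 3 → A ≤ dser (⊤ : Subgroup Y) 6 → ⁅U, A⁆ ≤ F := by
  haveI : Fact (Nat.Prime 3) := ⟨Nat.prime_three⟩
  rw [or_iff_not_imp_left]
  intro h A hA hA6
  refine comm_le_of_chief hU hA ?_ _ U inferInstance hFU le_rfl le_rfl
  intro C T _ _ h1 h2 h3 h4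
  refine hA6.trans (six_le_cenMod hN (hU.to_le h3) h2 h4 ?_)
  by_contra h5
  exact h ⟨C, T, inferInstance, inferInstance, h1, h2, h3, h4, not_lt.1 h5⟩

theorem relIndex_le_relIndex {F C T U : Subgroup Y} (h1 : F ≤ C) (h2 : T ≤ U) : C.relIndex T ≤ F.relIndex U :=
  (relIndex_le_of_le_right h2 index_ne_zero_of_finite).trans (relIndex_le_of_le_left h1 index_ne_zero_of_finite)

theorem comm_le_of_small (hN : Nat.card Y ∣ NB) {F U : Subgroup Y} [F.Normal] [U.Normal] (hU : IsPGroup 3 U)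
    (hFU : F ≤ U) (h : F.relIndex U < 3 ^ 8) {A : Subgroup Y} (hA : (Nat.card A).Coprime 3)
    (hA6 : A ≤ dser (⊤ : Subgroup Y) 6) : ⁅U, A⁆ ≤ F := by
  rcases big_or hN F U hU hFU with ⟨C, T, _, _, h1, _, h3, _, h5⟩ | h1
  · have := relIndex_le_relIndex h1 h3
    omega
  · exact h1 A hA hA6

theorem comm_eq {P A : Subgroup Y} [P.Normal] (hP : IsPGroup 3 P) (hA : (Nat.card A).Coprime 3) :
    ⁅⁅P, A⁆, A⁆ = ⁅P, A⁆ := by
  haveI : Fact (Nat.Prime 3) := ⟨Nat.prime_three⟩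
  obtain ⟨t, ht⟩ := IsPGroup.iff_card.1 hP
  exact S0027.result A P (by rw [normalizer_eq_top]; exact le_top) (by rw [ht]; exact hA.pow_right t)
    (Or.inl inferInstance)

theorem card_P_le (hN : Nat.card Y ∣ NB) {P K : Subgroup Y} (hP : IsPGroup 3 P) (hPK : P ≤ K) (h : 81 ∣ K.index) :
    Nat.card P ≤ 3 ^ 16 := by
  haveI : Fact (Nat.Prime 3) := ⟨Nat.prime_three⟩
  obtain ⟨t, ht⟩ := IsPGroup.iff_card.1 hP
  have h1 := (Nat.mul_dvd_mul_right h _).trans (index_mul_dvd (card_dvd_of_le hPK) hN)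
  rw [ht] at h1 ⊢
  refine Nat.pow_le_pow_right (by norm_num) ?_
  by_contra hlt
  have h2 : 81 * 3 ^ 17 ∣ NB := (Nat.mul_dvd_mul_left _ (pow_dvd_pow 3 (by omega))).trans h1
  exact absurd h2 (by decide +kernel)

end chief

end Cfsg.Agent.DS.Sp
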