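import Mathlib
import Cfsg.Agent.DS.Sp.D8A

/-!
# `3`-constrained solvable groups with a chief factor whose automizer has derived length at least `8` (helper57)
-/

set_option autoImplicit false
set_option linter.style.haveILetI false
set_option linter.unusedSectionVars false

namespace Cfsg.Agent.DS.Sp

open Subgroup Cfsg.Agent.H511.Wt Cfsg.Agent.DS.Ord
open scoped Pointwise commutatorElement

variable {Y : Type} [Group Y] [Finite Y] [Group.IsSolvable Y]

theorem PhiG.not_mem {C T : Subgroup Y} [C.Normal] [T.Normal] {z : Y} (h : PhiG C T z)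
    (hd : ¬ dser (⊤ : Subgroup Y) 7 ≤ cenMod C T) : z ∉ cenMod C T := by
  intro hz
  refine hd fun g hg => (h.sev g hg).elim id fun h1 => ?_
  simpa using (cenMod C T).mul_mem hz h1

theorem PhiG.sev_le {C T : Subgroup Y} [C.Normal] [T.Normal] {z : Y} (h : PhiG C T z) {L : Subgroup Y}
    (h1 : cenMod C T ≤ L) (h2 : z ∈ L) : dser (⊤ : Subgroup Y) 7 ≤ L := by
  intro g hg
  refine (h.sev g hg).elim (fun h3 => h1 h3) fun h3 => ?_
  simpa using L.mul_mem h2 (h1 h3)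

theorem PhiG.eight {C T : Subgroup Y} [C.Normal] [T.Normal] {z : Y} (h : PhiG C T z) :
    dser (⊤ : Subgroup Y) 8 ≤ cenMod C T := by
  haveI : (cenMod C T).Normal := by unfold cenMod; infer_instance
  rw [dser_succ, commutator_le]
  intro a ha b hb
  rw [← QuotientGroup.eq_one_iff]
  change QuotientGroup.mk' (cenMod C T) ⁅a, b⁆ = 1
  have key : ∀ g ∈ dser (⊤ : Subgroup Y) 7, QuotientGroup.mk' (cenMod C T) g = 1 ∨
      QuotientGroup.mk' (cenMod C T) g = QuotientGroup.mk' (cenMod C T) z := fun g hg =>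
    (h.sev g hg).imp (fun h1 => (QuotientGroup.eq_one_iff g).2 h1) fun h1 => (QuotientGroup.eq.2 h1).symm
  rw [map_commutatorElement, commutatorElement_eq_one_iff_mul_comm]
  rcases key a ha with h1 | h1 <;> rcases key b hb with h2 | h2 <;> rw [h1, h2] <;> simp

/-- the case where `D` centralizes `V` -/
theorem case_cent {V C T D : Subgroup Y} [V.Normal] [C.Normal] [T.Normal] (hS : S7 Y V) (hT : IsPGroup 3 T)
    (hCT : C < T) (hmin : ∀ L : Subgroup Y, L.Normal → C < L → L ≤ T → L = T) {z : Y} (h : PhiG C T z)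
    (hd : ¬ dser (⊤ : Subgroup Y) 7 ≤ cenMod C T) (hD6 : D ≤ dser (⊤ : Subgroup Y) 6) (hD7 : 2 ^ 7 ∣ Nat.card D)
    (hDK : dser (⊤ : Subgroup Y) 6 ≤ D ⊔ (cenMod C T ⊓ dser (⊤ : Subgroup Y) 6))
    (hDV : D ≤ centralizer (V : Set Y)) : False := by
  rcases hS with hS | ⟨C1, C2, h21, hn1, hn2, hS⟩
  · refine hS (hD7.trans (card_dvd_of_le (le_inf hDV (hD6.trans ?_))))
    exact dser_anti (⊤ : Subgroup Y) (show 1 ≤ 6 by norm_num)
  haveI : (centralizer (V : Set Y)).Normal := inferInstance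
  set U := T ⊓ centralizer (V : Set Y) with hU
  obtain ⟨b1, b2, b3⟩ := hS U inf_le_right (hT.to_le inf_le_left)
  have step : ∀ B : Subgroup Y, B ≤ T → D ≤ normalizer (B : Set Y) → C.relIndex B ≤ 3 ^ 7 → B ≤ C := by
    intro B hB hDB hc
    by_contra hne
    have h1 := h.big (B ⊔ C) (lt_of_le_of_ne le_sup_right fun h1 => hne (h1 ▸ le_sup_left)) (sup_le hB hCT.le)
      (hDK.trans (sup_le ?_ (inf_le_left.trans ?_)))
    · rw [relIndex_sup_right] at h1
      omega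
    · refine le_trans (le_inf hDB ?_) (normalizer_inf_normalizer_le_normalizer_sup B C)
      rw [normalizer_eq_top]
      exact le_top
    · have key : ∀ g ∈ cenMod C T, ∀ x ∈ B ⊔ C, g * x * g⁻¹ ∈ B ⊔ C := by
        intro g hg x hx
        have h2 := mem_cenMod.1 hg x (sup_le hB hCT.le hx)
        have h3 : g * x * g⁻¹ = ⁅g, x⁆ * x := by rw [commutatorElement_def]; group
        rw [h3]
        exact (B ⊔ C).mul_mem (mem_sup_right h2) hx
      intro g hg
      rw [mem_normalizer_iff]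
      refine fun x => ⟨key g hg x, fun hx => ?_⟩
      have h2 := key g⁻¹ (inv_mem hg) _ hx
      simpa only [mul_assoc, inv_inv, inv_mul_cancel_left, inv_mul_cancel, mul_one] using h2
  have hDU : D ≤ normalizer (U : Set Y) := by
    rw [normalizer_eq_top]
    exact le_top
  have s2 : U ⊓ C2 ≤ C := step _ (inf_le_left.trans inf_le_left)
    ((le_inf hDU (hDV.trans hn2)).trans (inf_normalizer_le_normalizer_inf))
    ((Nat.le_of_dvd Nat.card_pos (relIndex_dvd_card _ _)).trans b3)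
  have s1 : U ⊓ C1 ≤ C := step _ (inf_le_left.trans inf_le_left)
    ((le_inf hDU (hDV.trans hn1)).trans (inf_normalizer_le_normalizer_inf)) (by
      refine le_trans ?_ b2
      rw [← inf_relIndex_right C2]
      exact relIndex_le_of_le_left ((inf_le_inf_left _ inf_le_left).trans ((inf_comm C2 U).le.trans s2))
        index_ne_zero_of_finite)
  have s0 : U ≤ C := step _ inf_le_left hDU (by
      refine le_trans ?_ b1
      rw [← inf_relIndex_right C1]
      exact relIndex_le_of_le_left ((inf_comm C1 U).le.trans s1) index_ne_zero_of_finite)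
  refine hd ((dser_succ_le _ 6).trans (hDK.trans (sup_le (le_cenMod_iff.2 (le_trans ?_ s0)) inf_le_left)))
  exact le_inf (commutator_le_right _ _) ((commutator_mono hDV le_rfl).trans (commutator_le_left _ _))

/-- two large chief factors -/
theorem two_big (hN : Nat.card Y ∣ NB) {P V : Subgroup Y} [P.Normal] [V.Normal] (hP : IsPGroup 3 P)
    (hP16 : Nat.card P ≤ 3 ^ 16)
    (hab : ∀ A : Subgroup Y, IsPGroup 3 A → (∀ x ∈ A, ∀ y ∈ A, x * y = y * x) → Nat.card A ≤ 3 ^ 14)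
    {C1 T1 C2 T2 : Subgroup Y} [C1.Normal] [T1.Normal] [C2.Normal] [T2.Normal] (h1 : C1 < T1) (h1V : T1 ≤ V)
    (hm1 : ∀ L : Subgroup Y, L.Normal → C1 < L → L ≤ T1 → L = T1) (hb1 : 3 ^ 8 ≤ C1.relIndex T1)
    (hV2 : V ≤ C2) (h2 : C2 < T2) (h2P : T2 ≤ P) (hm2 : ∀ L : Subgroup Y, L.Normal → C2 < L → L ≤ T2 → L = T2)
    (hb2 : 3 ^ 8 ≤ C2.relIndex T2) (h6 : ¬ dser (⊤ : Subgroup Y) 6 ≤ centralizer (V : Set Y))
    (h7 : ¬ dser (⊤ : Subgroup Y) 7 ≤ cenMod C2 T2 ∨ ¬ dser (⊤ : Subgroup Y) 7 ≤ centralizer (V : Set Y)) : False := by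
  have e1 := card_mul_relIndex h1.le
  have e2 := card_mul_relIndex h2.le
  have l1 : Nat.card T1 ≤ Nat.card V := card_le_of_le h1V
  have l2 : Nat.card V ≤ Nat.card C2 := card_le_of_le hV2
  have l3 : Nat.card T2 ≤ Nat.card P := card_le_of_le h2P
  have p1 : 0 < Nat.card C1 := Nat.card_pos
  have q1 : 3 ^ 8 * Nat.card C1 ≤ Nat.card T1 := by rw [← e1, mul_comm]; exact Nat.mul_le_mul_left _ hb1
  have q2 : Nat.card C2 * 3 ^ 8 ≤ Nat.card T2 := by rw [← e2]; exact Nat.mul_le_mul_left _ hb2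
  have r1 : Nat.card C2 = 3 ^ 8 := by omega
  have r2 : C2.relIndex T2 = 3 ^ 8 := by
    rw [r1] at e2
    omega
  obtain rfl : T2 = P := eq_of_le_of_card_ge h2P (by omega)
  obtain rfl : V = C2 := eq_of_le_of_card_ge hV2 (by omega)
  obtain rfl : T1 = V := eq_of_le_of_card_ge h1V (by omega)
  obtain rfl : C1 = ⊥ := card_eq_one.1 (by omega)
  have hc : T2 ≤ centralizer (T1 : Set Y) := by
    rw [← cenMod_bot]
    exact le_cenMod_chief hP h2.le h1 hm1
  have hPP := chief_comm h2 hm2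
  have hPV : ⁅T2, T2⁆ = T1 := by
    refine hm1 _ inferInstance (bot_lt_iff_ne_bot.2 fun h0 => ?_) hPP
    have := hab T2 hP fun x hx y hy => by
      have h3 := commutator_mem_commutator hx hy
      rwa [h0, mem_bot, commutatorElement_eq_one_iff_mul_comm] at h3
    omega
  have hcent : ∀ g : Y, ⁅T2, T2⁆ ≤ centralizer {g} → g ∈ centralizer (T1 : Set Y) := by
    intro g hg
    rw [hPV] at hg
    rw [mem_centralizer_iff]
    exact fun v hv => mem_centralizer_singleton_iff.1 (hg hv)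
  have hK : cenMod T1 T2 ≤ centralizer (T1 : Set Y) := fun g hg =>
    hcent g (cent_comm_of h2.le hc fun a ha => mem_cenMod.1 hg a ha)
  have hd : ¬ dser (⊤ : Subgroup Y) 7 ≤ cenMod T1 T2 := h7.elim id fun h3 h4 => h3 (h4.trans hK)
  obtain ⟨z, h⟩ := phi_grp hN T1 T2 h2 hm2 hPP r2 (by norm_num) hd
  have hz : z ∈ centralizer (T1 : Set Y) := hcent z (cent_comm_of_neg h2.le hc hPP h.neg)
  have h7' := h.sev_le hK hz
  obtain ⟨X, j1, j2, j3, hirr, hcX, hX⟩ := exists_mod ⊥ T1 h1 hm1 (chief_comm h1 hm1)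
  rw [cenMod_bot] at hX
  rw [relIndex_bot_left, r1] at hcX
  have h4 := eig_comm hirr hcX le_rfl (dser (⊤ : Subgroup Y) 6) (by
      intro a ha b hb v
      have h3 := (hX _).2 (h7' (commutator_mem_commutator ha hb)) (b • a • v)
      rw [← h3, ← mul_smul, ← mul_smul, ← mul_smul, commutatorElement_def]
      congr 1
      group) (by
      intro a ha v
      rw [← mul_smul, ← pow_two]
      refine (hX _).2 ((h.sq a ha).elim (fun h3 => hK h3) fun h3 => ?_) v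
      simpa using (centralizer (T1 : Set Y)).mul_mem hz (hK h3))
  refine h6 (h.min _ inferInstance hK h7' ?_)
  rw [commutator_le]
  exact fun g hg a ha => (hX _).1 (h4 g hg a ha)

/-- one large chief factor, inside `V` -/
theorem one_big (hN : Nat.card Y ∣ NB) {P V C T D : Subgroup Y} [P.Normal] [hVn : V.Normal] [hCn : C.Normal]
    [T.Normal] (hP : IsPGroup 3 P) (hO : ∀ L : Subgroup Y, L.Normal → IsPGroup 3 L → L ≤ P)
    (hcen : centralizer (P : Set Y) ≤ P) (hP16 : Nat.card P ≤ 3 ^ 16) (hVP : V ≤ P)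
    (hVc : ∀ x ∈ V, ∀ y ∈ V, x * y = y * x) (hV14 : Nat.card V ≤ 3 ^ 14) (hPK : P ≤ cenMod C T)
    (hcov : T ≤ (V ⊓ T) ⊔ C) (hb : 3 ^ 8 ≤ C.relIndex T) {z0 : Y} (h : PhiG C T z0)
    (hd : ¬ dser (⊤ : Subgroup Y) 7 ≤ cenMod C T) (hD6 : D ≤ dser (⊤ : Subgroup Y) 6) (hD : IsPGroup 2 D)
    (hDK : dser (⊤ : Subgroup Y) 6 ≤ D ⊔ (cenMod C T ⊓ dser (⊤ : Subgroup Y) 6))
    (hup : ∀ A : Subgroup Y, (Nat.card A).Coprime 3 → A ≤ dser (⊤ : Subgroup Y) 6 → ⁅P, A⁆ ≤ V) :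
    dser (⊤ : Subgroup Y) 9 = ⊥ := by
  haveI : Fact (Nat.Prime 3) := ⟨Nat.prime_three⟩
  haveI : Fact (Nat.Prime 2) := ⟨Nat.prime_two⟩
  haveI hKn : (cenMod C T).Normal := by unfold cenMod; infer_instance
  have hV : IsPGroup 3 V := hP.to_le hVP
  have hb' : 3 ^ 8 ≤ C.relIndex (V ⊓ T) := by
    rw [← relIndex_sup_right]
    exact hb.trans (relIndex_le_of_le_right hcov index_ne_zero_of_finite)
  have hVT : Nat.card (V ⊓ T : Subgroup Y) ≤ 3 ^ 14 := (card_le_of_le inf_le_left).trans hV14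
  have s1 : (V ⊓ T).relIndex V < 3 ^ 8 := by
    have e1 := card_mul_relIndex (inf_le_left : V ⊓ T ≤ V)
    have e2 : 3 ^ 8 ≤ Nat.card (V ⊓ T : Subgroup Y) := hb'.trans (Nat.le_of_dvd Nat.card_pos (relIndex_dvd_card _ _))
    by_contra hlt
    have := Nat.mul_le_mul e2 (not_lt.1 hlt)
    omega
  have s2 : (⊥ : Subgroup Y).relIndex (C ⊓ (V ⊓ T)) < 3 ^ 8 := by
    have e1 := card_mul_relIndex (inf_le_right : C ⊓ (V ⊓ T) ≤ V ⊓ T)
    rw [inf_relIndex_right] at e1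
    rw [relIndex_bot_left]
    by_contra hlt
    have := Nat.mul_le_mul (not_lt.1 hlt) hb'
    omega
  have a1 : ∀ A : Subgroup Y, (Nat.card A).Coprime 3 → A ≤ dser (⊤ : Subgroup Y) 6 → ⁅V, A⁆ ≤ V ⊓ T :=
    fun A hA hA6 => comm_le_of_small hN hV inf_le_left s1 hA hA6
  have a2 : ∀ A : Subgroup Y, (Nat.card A).Coprime 3 → A ≤ dser (⊤ : Subgroup Y) 6 → ⁅C ⊓ (V ⊓ T), A⁆ ≤ ⊥ :=
    fun A hA hA6 => comm_le_of_small hN (hV.to_le (inf_le_right.trans inf_le_left)) bot_le s2 hA hA6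
  have hR : cenMod C T ⊓ dser (⊤ : Subgroup Y) 6 ≤ P := by
    refine hO _ inferInstance (IsPGroup.iff_card.2 ⟨_, Nat.eq_prime_pow_of_unique_prime_dvd Nat.card_pos.ne' ?_⟩)
    intro r hr hrd
    by_contra hne
    haveI : Fact r.Prime := ⟨hr⟩
    obtain ⟨⟨g, hg⟩, hgo⟩ := exists_prime_orderOf_dvd_card' r hrd
    have h1 : orderOf g = r := by rw [← hgo]; exact (Subgroup.orderOf_coe ⟨g, hg⟩)
    have h2 : Nat.card (zpowers g) = r := by rw [Nat.card_zpowers, h1]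
    have hA : (Nat.card (zpowers g)).Coprime 3 := by rw [h2]; exact (Nat.coprime_primes hr Nat.prime_three).2 hne
    have hA6 : zpowers g ≤ dser (⊤ : Subgroup Y) 6 := zpowers_le.2 hg.2
    have c1 : ⁅P, zpowers g⁆ ≤ V ⊓ T := by
      rw [← comm_eq hP hA]
      exact (commutator_mono (hup _ hA hA6) le_rfl).trans (a1 _ hA hA6)
    have c2 : ⁅P, zpowers g⁆ ≤ C ⊓ (V ⊓ T) := by
      refine le_inf ?_ c1
      rw [← comm_eq hP hA, commutator_comm]
      exact (commutator_mono (zpowers_le.2 hg.1) (c1.trans inf_le_right)).trans (le_cenMod_iff.1 le_rfl)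
    have c3 : ⁅zpowers g, P⁆ ≤ ⊥ := by
      rw [commutator_comm, ← comm_eq hP hA]
      exact (commutator_mono c2 le_rfl).trans (a2 _ hA hA6)
    have h4 := card_dvd_of_le (((cenMod_bot P) ▸ le_cenMod_iff.2 c3).trans hcen)
    obtain ⟨a, ha⟩ := IsPGroup.iff_card.1 hP
    rw [h2, ha] at h4
    exact hne ((Nat.prime_dvd_prime_iff_eq hr Nat.prime_three).1 (hr.dvd_of_dvd_pow h4))
  have hz0 := h.not_mem hd
  have hz06 : z0 ∈ dser (⊤ : Subgroup Y) 6 := dser_succ_le _ 6 h.mem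
  have hsqK : z0 ^ 2 ∈ cenMod C T := (h.sq z0 hz06).resolve_right fun h1 => hz0 (by simpa [pow_two] using h1)
  obtain ⟨k, hk⟩ := hP ⟨z0 ^ 2, hR ⟨hsqK, pow_mem hz06 2⟩⟩
  have hk' : (z0 ^ 2) ^ 3 ^ k = 1 := congrArg Subtype.val hk
  obtain ⟨m, hm⟩ : Odd (3 ^ k) := Odd.pow (by decide)
  obtain ⟨z, hz7, hzz, hzK⟩ : ∃ z ∈ dser (⊤ : Subgroup Y) 7, z * z = 1 ∧ z0⁻¹ * z ∈ cenMod C T := by
    refine ⟨z0 ^ 3 ^ k, pow_mem h.mem _, by rw [← pow_two, ← pow_mul, mul_comm, pow_mul, hk'], ?_⟩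
    rw [hm, pow_succ', inv_mul_cancel_left, pow_mul]
    exact pow_mem hsqK m
  have hz6 : z ∈ dser (⊤ : Subgroup Y) 6 := dser_succ_le _ 6 hz7
  have hzi : z⁻¹ = z := inv_eq_of_mul_eq_one_right hzz
  have hneg : ∀ t ∈ T, z * t * z⁻¹ * t ∈ C := by
    intro t ht
    have h1 := mem_cenMod.1 hzK t ht
    have h2 : z * t * z⁻¹ * t = z0 * ⁅z0⁻¹ * z, t⁆ * z0⁻¹ * (z0 * t * z0⁻¹ * t) := by
      rw [commutatorElement_def]; group
    rw [h2]
    exact C.mul_mem (hCn.conj_mem _ h1 z0) (h.neg t ht)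
  have hA : (Nat.card (zpowers z)).Coprime 3 := by
    rw [Nat.card_zpowers]
    exact Nat.Coprime.coprime_dvd_left (orderOf_dvd_of_pow_eq_one (by rw [pow_two, hzz] : z ^ 2 = 1)) (by norm_num)
  have hA6 : zpowers z ≤ dser (⊤ : Subgroup Y) 6 := zpowers_le.2 hz6
  have hzP : ∀ p ∈ P, ⁅p, z⁆ ∈ V := fun p hp => hup _ hA hA6 (commutator_mem_commutator hp (mem_zpowers z))
  have hconj : ∀ g : Y, z⁻¹ * (g * z * g⁻¹) ∈ V := by
    intro g
    have h1 : g * z * g⁻¹ ∈ dser (⊤ : Subgroup Y) 7 := (dser_normal ⊤ 7).conj_mem _ hz7 g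
    have h2 : z⁻¹ * (g * z * g⁻¹) ∈ cenMod C T := by
      rcases h.sev _ h1 with h3 | h3
      · exfalso
        apply hz0
        have h4 := hKn.conj_mem _ h3 g⁻¹
        have h5 := (cenMod C T).mul_mem h4 (inv_mem hzK)
        simpa [mul_assoc] using h5
      · have h4 := (cenMod C T).mul_mem (inv_mem hzK) h3
        simpa [mul_assoc] using h4
    have h3 : z⁻¹ * (g * z * g⁻¹) ∈ P := hR ⟨h2, Subgroup.mul_mem _ (Subgroup.inv_mem _ hz6) (dser_succ_le _ 6 h1)⟩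
    refine mem_of_sq_mem hP h3 ?_
    have h4 := hzP _ h3
    have h5 : ⁅z⁻¹ * (g * z * g⁻¹), z⁆ = z⁻¹ * (g * z * g⁻¹) * (z⁻¹ * (g * z * g⁻¹)) := by
      rw [commutatorElement_def]
      calc z⁻¹ * (g * z * g⁻¹) * z * (z⁻¹ * (g * z * g⁻¹))⁻¹ * z⁻¹
          = z⁻¹ * (g * z * g⁻¹) * (z * (g * z⁻¹ * g⁻¹)) := by group
        _ = _ := by rw [hzi]
    rwa [h5] at h4
  let V0 : Subgroup Y :=
    { carrier := {v | v ∈ V ∧ z * v * z⁻¹ = v⁻¹}
      mul_mem' := fun {a b} ha hb => ⟨V.mul_mem ha.1 hb.1, by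
        conv_rhs => rw [hVc a ha.1 b hb.1, mul_inv_rev, ← ha.2, ← hb.2]
        group⟩
      one_mem' := ⟨V.one_mem, by group⟩
      inv_mem' := fun {a} ha => ⟨V.inv_mem ha.1, by rw [← conj_inv, ha.2]⟩ }
  haveI hV0n : V0.Normal := by
    refine ⟨fun v hv g => ⟨hVn.conj_mem _ hv.1 g, ?_⟩⟩
    have h1 := hVc _ (hconj g⁻¹) v hv.1
    calc z * (g * v * g⁻¹) * z⁻¹ = g * (z * ((z⁻¹ * (g⁻¹ * z * g⁻¹⁻¹)) * v) * (z⁻¹ * (g⁻¹ * z * g⁻¹⁻¹))⁻¹ * z⁻¹) * g⁻¹ := by
          group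
      _ = g * (z * v * z⁻¹) * g⁻¹ := by rw [h1]; group
      _ = _ := by rw [hv.2]; group
  have hV0V : V0 ≤ V := fun v hv => hv.1
  have hV0T : V0 ≤ T := by
    intro v hv
    refine mem_of_sq_mem hV hv.1 ?_
    have h1 := (a1 _ hA hA6 (commutator_mem_commutator hv.1 (mem_zpowers z))).2
    have h2 : ⁅v, z⁆ = v * v := by
      calc ⁅v, z⁆ = v * (z * v * z⁻¹)⁻¹ := by rw [commutatorElement_def]; group
        _ = v * v := by rw [hv.2, inv_inv]
    rwa [h2] at h1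
  have hfix : ∀ v ∈ V0, v * z = z * v → v = 1 := by
    intro v hv h1
    rw [← mem_bot]
    refine mem_of_sq_mem hV hv.1 ?_
    have h2 := hv.2
    rw [← h1, mul_inv_cancel_right] at h2
    rw [mem_bot]
    exact mul_eq_one_iff_eq_inv.2 h2
  have hPV0 : P ≤ centralizer (V0 : Set Y) := by
    intro p hp
    rw [mem_centralizer_iff]
    intro v hv
    have h1 : ⁅p, v⁆ ∈ V0 := commutator_le_right ⊤ V0 (commutator_mem_commutator (mem_top p) hv)
    have h2 : ⁅p, v⁆ ∈ C ⊓ (V ⊓ T) := ⟨mem_cenMod.1 (hPK hp) v (hV0T hv), h1.1, hV0T h1⟩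
    have h3 := a2 _ hA hA6 (commutator_mem_commutator h2 (mem_zpowers z))
    rw [mem_bot, commutatorElement_eq_one_iff_mul_comm] at h3
    exact (commutatorElement_eq_one_iff_mul_comm.1 (hfix _ h1 h3)).symm
  have hzP0 : ∀ p ∈ P, z * p * z⁻¹ * p⁻¹ ∈ V0 := by
    intro p hp
    refine ⟨?_, ?_⟩
    · have h1 := V.inv_mem (hzP p hp)
      rwa [commutatorElement_inv] at h1
    · calc z * (z * p * z⁻¹ * p⁻¹) * z⁻¹ = (z * z) * p * z⁻¹ * p⁻¹ * z⁻¹ := by group
        _ = _ := by rw [hzz]; nth_rewrite 1 [hzi]; group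
  have hc1 : ⁅P, P⁆ ≤ centralizer {z} := cent_comm_of (hV0V.trans hVP) hPV0 hzP0
  have hV08 : 3 ^ 8 ≤ Nat.card V0 := by
    have h1 : V ⊓ T ≤ V0 ⊔ C := by
      intro t ht
      refine mem_of_sq_mem hV ht.1 ?_
      have h2 : t * t = (z * t * z⁻¹ * t⁻¹)⁻¹ * (z * t * z⁻¹ * t) := by group
      rw [h2]
      exact mul_mem_sup (V0.inv_mem (hzP0 t (hVP ht.1))) (hneg t ht.2)
    refine hb'.trans ((relIndex_le_of_le_right h1 index_ne_zero_of_finite).trans ?_)
    rw [relIndex_sup_right]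
    exact Nat.le_of_dvd Nat.card_pos (relIndex_dvd_card _ _)
  have s3 : V0.relIndex V < 3 ^ 8 := by
    have e1 := card_mul_relIndex hV0V
    by_contra hlt
    have := Nat.mul_le_mul hV08 (not_lt.1 hlt)
    omega
  have s4 : V0.relIndex P < 3 ^ 11 := by
    have e1 := card_mul_relIndex (hV0V.trans hVP)
    by_contra hlt
    have := Nat.mul_le_mul hV08 (not_lt.1 hlt)
    omega
  obtain ⟨d, hd2⟩ := IsPGroup.iff_card.1 hD
  have hDc : (Nat.card D).Coprime 3 := by rw [hd2]; exact Nat.Coprime.pow_left d (by norm_num)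
  have hDJ : ⁅D, P⁆ ≤ V0 := by
    rw [commutator_comm, ← comm_eq hP hDc]
    exact (commutator_mono (hup _ hDc hD6) le_rfl).trans (comm_le_of_small hN hV hV0V s3 hDc hD6)
  haveI : (cenMod V0 P).Normal := by unfold cenMod; infer_instance
  set J := dser (⊤ : Subgroup Y) 6 ⊓ cenMod V0 P with hJ
  have hJP : ⁅J, P⁆ ≤ V0 := le_cenMod_iff.1 inf_le_right
  have h8P : dser (⊤ : Subgroup Y) 8 ≤ P := (le_inf h.eight (dser_anti _ (by norm_num))).trans hR
  have hJ3 : dser J 3 ≤ V0 := by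
    refine le_trans (commutator_mono (dser_le J 2) (le_trans ?_ h8P)) hJP
    exact (dser_mono inf_le_left 2).trans (dser_dser ⊤ 6 2).le
  have hP3 : dser P 3 ≤ V0 := by
    by_contra hne
    have h1 : dser (P.map (QuotientGroup.mk' V0)) 3 ≠ ⊥ := by
      rwa [← map_dser, Ne, Subgroup.map_eq_bot_iff, QuotientGroup.ker_mk']
    have h2 := hall_amb (hP.map (QuotientGroup.mk' V0)) h1 (Nat.zero_le 3)
    rw [dser_zero, ← relIndex_ker, QuotientGroup.ker_mk'] at h2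
    omega
  have h9 : dser (⊤ : Subgroup Y) 9 ≤ V0 :=
    dser_add_le (a := 6) (b := 3) (hDK.trans (sup_le_sup (le_inf hD6 (le_cenMod_iff.2 hDJ)) hR))
      ((dser_sup_le hJP 3).trans (sup_le (sup_le hJ3 hP3) le_rfl))
  rw [eq_bot_iff]
  intro v hv
  exact hfix v (h9 hv) (mem_centralizer_singleton_iff.1 (hc1 (commutator_mono h8P h8P hv)))

/-- **The case of a chief factor with automizer of derived length at least eight.** -/
theorem d8 (hN : Nat.card Y ∣ NB) (P V : Subgroup Y) [P.Normal] [V.Normal] (hP : IsPGroup 3 P)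
    (hO : ∀ L : Subgroup Y, L.Normal → IsPGroup 3 L → L ≤ P) (hcen : centralizer (P : Set Y) ≤ P)
    (hV : IsPGroup 3 V) (hVc : ∀ x ∈ V, ∀ y ∈ V, x * y = y * x)
    (hab : ∀ A : Subgroup Y, IsPGroup 3 A → (∀ x ∈ A, ∀ y ∈ A, x * y = y * x) → Nat.card A ≤ 3 ^ 14)
    (hS : S7 Y V) (C T : Subgroup Y) [C.Normal] [T.Normal] (hCT : C < T) (hTP : T ≤ P)
    (hmin : ∀ L : Subgroup Y, L.Normal → C < L → L ≤ T → L = T) (h15 : C.relIndex T ≤ 3 ^ 15)
    (hd : ¬ dser (⊤ : Subgroup Y) 7 ≤ cenMod C T) : dser (⊤ : Subgroup Y) 9 = ⊥ := by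
  haveI : Fact (Nat.Prime 3) := ⟨Nat.prime_three⟩
  have hVP := hO V inferInstance hV
  obtain ⟨j, hj⟩ := relIndex_pow (C := C) (hP.to_le hTP)
  obtain ⟨z, h⟩ := phi_grp hN C T hCT hmin (chief_comm hCT hmin) hj
    ((Nat.pow_le_pow_iff_right (by norm_num)).1 (hj ▸ h15)) hd
  have hPK := le_cenMod_chief hP hTP hCT hmin
  have hP16 := card_P_le hN hP hPK h.dvd
  have hb : 3 ^ 8 ≤ C.relIndex T := h.big T hCT le_rfl (by rw [normalizer_eq_top]; exact le_top)
  obtain ⟨D, hD6, hD, hD7, hDK⟩ := exists_D h.card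
  by_cases hDV : D ≤ centralizer (V : Set Y)
  · exact (case_cent hS (hP.to_le hTP) hCT hmin h hd hD6 hD7 hDK hDV).elim
  have h6 : ¬ dser (⊤ : Subgroup Y) 6 ≤ centralizer (V : Set Y) := fun h1 => hDV (hD6.trans h1)
  obtain ⟨C1, T1, _, _, -, b1, b2, b3, b4⟩ := (big_or hN ⊥ V hV bot_le).resolve_right fun h1 => hDV (by
    haveI : Fact (Nat.Prime 2) := ⟨Nat.prime_two⟩
    obtain ⟨d, hd2⟩ := IsPGroup.iff_card.1 hD
    rw [← cenMod_bot, le_cenMod_iff, commutator_comm]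
    exact h1 D (by rw [hd2]; exact Nat.Coprime.pow_left d (by norm_num)) hD6)
  by_cases hav : V ⊓ T ≤ C
  · exfalso
    have h1 := sup_inf_le hCT.le hav
    refine two_big hN hP hP16 hab b1 b2 b3 b4 (C2 := C ⊔ V) (T2 := T ⊔ V) le_sup_right
      (lt_of_le_of_ne (sup_le_sup_right hCT.le V) fun h2 => hCT.not_ge ((le_inf (h2 ▸ le_sup_left) le_rfl).trans h1))
      (sup_le hTP hVP) ?_ ?_ h6 (Or.inl fun h2 => hd fun g hg => ?_)
    · intro L hL h2 h3
      by_cases h4 : C = L ⊓ T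
      · exfalso
        refine h2.not_ge ((le_inf le_rfl h3).trans ((inf_sup_le (le_sup_right.trans h2.le)).trans ?_))
        rw [← h4]
      · have h5 := hmin (L ⊓ T) inferInstance (lt_of_le_of_ne (le_inf (le_sup_left.trans h2.le) hCT.le) h4)
          inf_le_right
        exact le_antisymm h3 (sup_le (h5.ge.trans inf_le_left) (le_sup_right.trans h2.le))
    · refine hb.trans (le_trans ?_ (relIndex_le_of_le_right (le_sup_left : T ≤ T ⊔ V) index_ne_zero_of_finite))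
      rw [← inf_relIndex_right (C ⊔ V)]
      exact relIndex_le_of_le_left h1 index_ne_zero_of_finite
    · rw [mem_cenMod]
      intro t ht
      exact h1 ⟨mem_cenMod.1 (h2 hg) t (mem_sup_left ht),
        commutator_le_right ⊤ T (commutator_mem_commutator (mem_top g) ht)⟩
  have hcov : T ≤ (V ⊓ T) ⊔ C := (hmin _ inferInstance
    (lt_of_le_of_ne le_sup_right fun h1 => hav (h1 ▸ le_sup_left)) (sup_le inf_le_right hCT.le)).ge
  rcases big_or hN V P hP hVP with ⟨C2, T2, _, _, c0, c1, c2, c3, c4⟩ | hup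
  · exfalso
    refine two_big hN hP hP16 hab b1 b2 b3 b4 c0 c1 c2 c3 c4 h6 (Or.inr fun h2 => hd (h2.trans ?_))
    rw [cenMod_comm, le_cenMod_iff]
    refine (commutator_mono hcov le_rfl).trans (comm_sup_le (le_trans ?_ bot_le) (commutator_le_left _ _))
    rw [commutator_comm, ← le_cenMod_iff, cenMod_bot]
    exact centralizer_le (fun x hx => hx.1)
  · exact one_big hN hP hO hcen hP16 hVP hVc (hab V hV hVc) hPK hcov hb h hd hD6 hD hDK hup

end Cfsg.Agent.DS.Sp
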