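import Cfsg.Agent.DS.Sp.Tools
import Cfsg.Agent.H935.FiThree.Sol
import Cfsg.Agent.S1697
import Cfsg.Agent.S2080

/-!
# S5881, S5882: the box `BoxFi23` (helper57)

`PS 10` by the order.  If `H` is not solvable, with perfect residual `R`, then `3` divides `|R|` or the order of
`H / R` is not divisible by `3 ^ 13` for another reason: a Sylow `3`-subgroup of `Fi₂₃` normalizes no non-solvable
`3'`-subgroup.
-/

set_option autoImplicit false
set_option linter.style.haveILetI false

namespace Cfsg.Agent.DS.Sp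

open Subgroup Cfsg Cfsg.Agent.H936 Cfsg.Agent.DS.Ord
open scoped commutatorElement

/-- an element of class `3B`, as a commutator -/
def Heis23 (G : Type*) [Group G] : Prop :=
  ∃ x y c : G, x ^ 3 = 1 ∧ y ^ 3 = 1 ∧ c ^ 3 = 1 ∧ x * y = c * y * x ∧ c * x = x * c ∧ c * y = y * c ∧
    ∀ (r : ℕ) (t : G), r.Prime → t ^ r = 1 → t ≠ 1 → c * t = t * c → r = 2 ∨ r = 3

theorem Heis23.congr {G G' : Type*} [Group G] [Group G'] (e : G ≃* G') (h : Heis23 G) : Heis23 G' := by
  obtain ⟨x, y, c, h1, h2, h3, h4, h5, h6, h7⟩ := h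
  refine ⟨e x, e y, e c, by rw [← map_pow, h1, map_one], by rw [← map_pow, h2, map_one],
    by rw [← map_pow, h3, map_one], by rw [← map_mul, h4, map_mul, map_mul], by rw [← map_mul, h5, map_mul],
    by rw [← map_mul, h6, map_mul], ?_⟩
  intro r t hr ht ht1 hc
  obtain ⟨t, rfl⟩ := e.surjective t
  refine h7 r t hr (e.injective (by rw [map_pow, ht, map_one])) (fun h => ht1 (by rw [h, map_one])) ?_
  apply e.injective
  rw [map_mul, map_mul, hc]

section model

open Cfsg.Agent.LThreeFi23 Cfsg.Agent.H935.FiThree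

theorem heis23_model : Heis23 Spor.Fi23 := by
  have hfin : Finite Spor.Fi23 := finG
  have h1 := xx_cube
  have h2 := yy_cube
  have h3 := xx_yy
  have h4 := td_w0
  have h5 := tg_w0
  have h6 := th_w0
  simp only [elw_append, elw_nil] at h1 h2 h3 h4 h5 h6
  have h7 := W_cube
  have h8 : ∀ (r : ℕ) (t : Spor.Fi23), r.Prime → t ^ r = 1 → t ≠ 1 → W * t = t * W → r = 2 ∨ r = 3 := by
    intro r t hr ht ht1 hc
    haveI : Fact r.Prime := ⟨hr⟩
    refine prime_cent hr ?_
    rw [← orderOf_eq_prime ht ht1]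
    exact Subgroup.orderOf_dvd_natCard _ (mem_centralizer_singleton_iff.2 hc.symm)
  change _ = W * _ * _ * _ * _ at h3
  change _ * W = W * _ at h4 h5 h6
  generalize W = w at *
  generalize elw td = a at *
  generalize elw tg = b at *
  generalize elw th = d at *
  refine ⟨a * b, a * d, w, ?_, ?_, h7, ?_, ?_, ?_, h8⟩
  · rw [← h1]
    simp only [pow_succ, pow_zero, one_mul, mul_assoc]
  · rw [← h2]
    simp only [pow_succ, pow_zero, one_mul, mul_assoc]
  · simpa only [mul_assoc] using h3
  · rw [← mul_assoc, ← h4, mul_assoc, ← h5, mul_assoc]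
  · rw [← mul_assoc, ← h4, mul_assoc, ← h6, mul_assoc]

end model

/-- a Sylow `3`-subgroup normalizes no non-solvable `3'`-subgroup -/
theorem solvable_of_heis {G : Type} [Group G] [Finite G] (hG : Nat.card G = 4089470473293004800) (h : Heis23 G)
    {H R : Subgroup G} (hHR : H ≤ normalizer (R : Set G)) (h3 : 3 ^ 13 ∣ Nat.card H) (hR : ¬ 3 ∣ Nat.card R) :
    Group.IsSolvable R := by
  haveI : Fact (Nat.Prime 3) := ⟨Nat.prime_three⟩
  refine LThreeFi24.Comp.solvable_of_primes fun r hr hrd => ?_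
  haveI : Fact r.Prime := ⟨hr⟩
  obtain ⟨x, y, c, h1, h2, h4, h5, h6, h7, h8⟩ := h
  obtain ⟨P, hP, hc⟩ := exists_pgroup_heis h1 h2 h4 h5 h6 h7
  obtain ⟨g, hg⟩ := exists_conj_le H h3 (by rw [hG]; norm_num) hP
  set P' := P.map (MulAut.conj g).toMonoidHom with hP'
  have hP3 : IsPGroup 3 P' := hP.map _
  obtain ⟨n, hn⟩ := IsPGroup.iff_card.1 hP3
  haveI := hP3.isNilpotent
  obtain ⟨T, hT⟩ := S0023.result P' R (hg.trans hHR)
    (by rw [hn]; exact ((Nat.Prime.coprime_iff_not_dvd Nat.prime_three).2 hR).pow_left n) (Or.inl inferInstance) r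
  set T' := (T : Subgroup R).map R.subtype with hT'
  have hTr : IsPGroup r T' := T.isPGroup'.map _
  obtain ⟨k, hk⟩ := IsPGroup.iff_card.1 hTr
  have hk0 : k ≠ 0 := by
    rintro rfl
    have h9 := T.dvd_card_of_dvd_card hrd
    rw [hT', card_map_of_injective R.subtype_injective] at hk
    rw [hk, pow_zero, Nat.dvd_one] at h9
    exact hr.one_lt.ne' h9
  have hkd : r ^ k ∣ 4089470473293004800 := by
    rw [← hk, ← hG]
    exact card_subgroup_dvd_card T'
  by_contra hne
  have hr5 : 5 ≤ r := by
    have h9 := hr.two_le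
    by_contra hlt
    have h10 : r = 4 := by omega
    rw [h10] at hr
    norm_num at hr
  have h9 : ¬ 3 ^ 2 ∣ Nat.card T' - 1 := by
    rw [hk]
    have hk3 : k < 3 := by
      by_contra hlt
      have h10 : r ^ 3 ∣ 4089470473293004800 := (pow_dvd_pow r (by omega)).trans hkd
      rcases LThreeFi23.prime_cases hr hr5 ((dvd_pow_self r hk0).trans hkd) with rfl | rfl | rfl | rfl | rfl | rfl <;>
        norm_num at h10
    rcases LThreeFi23.prime_cases hr hr5 ((dvd_pow_self r hk0).trans hkd) with rfl | rfl | rfl | rfl | rfl | rfl <;>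
      interval_cases k <;> first | exact absurd rfl hk0 | (norm_num; done) | norm_num at hkd
  obtain ⟨t, ht, ht1, htc⟩ := exists_cent_commutator hP3 hT h9
  have h10 := htc (g * c * g⁻¹) (by
    rw [hP', ← map_commutator]
    exact ⟨c, hc, rfl⟩)
  obtain ⟨j, hj⟩ := hTr ⟨t, ht⟩
  have hj' : t ^ r ^ j = 1 := congrArg Subtype.val hj
  have h11 : r ∣ orderOf t := by
    obtain ⟨i, _, hi⟩ := (Nat.dvd_prime_pow hr).1 (orderOf_dvd_of_pow_eq_one hj')
    rw [hi]
    refine dvd_pow_self r ?_
    rintro rfl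
    rw [pow_zero, orderOf_eq_one_iff] at hi
    exact ht1 hi
  have h12 : orderOf (t ^ (orderOf t / r)) = r := orderOf_pow_orderOf_div (orderOf_pos t).ne' h11
  set s := t ^ (orderOf t / r) with hs
  have h13 : (g * c * g⁻¹) * s = s * (g * c * g⁻¹) := (Commute.pow_right h10 _).eq
  refine hne (h8 r (g⁻¹ * s * g⁻¹⁻¹) hr ?_ ?_ ?_)
  · rw [conj_pow, ← h12, pow_orderOf_eq_one, mul_one, mul_inv_cancel]
  · rw [Ne, conj_eq_one_iff]
    intro h14
    rw [h14, orderOf_one] at h12
    exact hr.one_lt.ne h12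
  · calc c * (g⁻¹ * s * g⁻¹⁻¹) = g⁻¹ * ((g * c * g⁻¹) * s) * g := by group
      _ = g⁻¹ * (s * (g * c * g⁻¹)) * g := by rw [h13]
      _ = g⁻¹ * s * g⁻¹⁻¹ * c := by group

theorem boxFi23 : BoxFi23 := by
  intro _ G _ _ S H E r hL h
  have hs := hL.toSetup
  have hS : Nat.card S = 4089470473293004800 := by
    obtain ⟨e⟩ := h
    rw [Nat.card_congr e.toEquiv, S1697.result.2]
  have hd := card_dvd_of_setup hs
  have ho : Nat.card (Cfsg.Out S) = 1 := Nat.dvd_one.1 (card_out_of h S2080.result)
  rw [ho, mul_one] at hd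
  have htop : S = ⊤ := eq_top_of_le_card S (Nat.le_of_dvd Nat.card_pos hd)
  have hG : Nat.card G = 4089470473293004800 := by rw [← hS, htop, card_top]
  obtain ⟨e⟩ := h
  have e' : G ≃* S := topEquiv.symm.trans (MulEquiv.subgroupCongr htop.symm)
  by_cases hsol : Group.IsSolvable H
  · right
    refine ⟨ps_of_sdOrd sdOrd_Fi23 H (hG ▸ card_subgroup_dvd_card H), hsol, ?_, hG⟩
    have := hs.simple
    exact e'.isSimpleGroup
  left
  obtain ⟨n, hn⟩ := exists_ps H
  have hq : Nat.card (H ⧸ derivedSeries H n) * Nat.card (derivedSeries H n) = Nat.card H :=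
    (card_eq_card_quotient_mul_card_subgroup _).symm
  have hH : Nat.card H ∣ 4089470473293004800 := hG ▸ card_subgroup_dvd_card H
  refine ps_of_quot hn (sdOrd_NA _ (quot_solvable H n) ?_)
  have h1 : ¬ 3 ^ (12 + 1) ∣ Nat.card (H ⧸ derivedSeries H n) := by
    intro h1
    apply hsol
    have h2 : Group.IsSolvable ((derivedSeries H n).map H.subtype) := by
      refine solvable_of_heis hG (heis23_model.congr (e'.trans e).symm) (H := H) ?_
        (h1.trans (card_quotient_dvd_card _)) ?_
      · haveI : ((derivedSeries H n).map H.subtype).subgroupOf H |>.Normal := by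
          rw [subgroupOf, comap_map_eq_self_of_injective H.subtype_injective]
          infer_instance
        exact le_normalizer_of_normal_subgroupOf (map_subtype_le _)
      · rw [card_map_of_injective H.subtype_injective]
        intro h3
        have h4 : 3 ^ (12 + 1) * 3 ∣ 4089470473293004800 := (Nat.mul_dvd_mul h1 h3).trans (hq ▸ hH)
        norm_num at h4
    have h3 : Group.IsSolvable (derivedSeries H n) :=
      Group.isSolvable_of_isSolvable_injective
        (f := (equivMapOfInjective (derivedSeries H n) _ H.subtype_injective).toMonoidHom)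
        (equivMapOfInjective (derivedSeries H n) _ H.subtype_injective).injective
    haveI := quot_solvable H n
    exact Group.isSolvable_of_ker_le_range (derivedSeries H n).subtype (QuotientGroup.mk' (derivedSeries H n))
      (by rw [QuotientGroup.ker_mk', range_subtype])
  refine (dvd_of_not_pow_dvd Nat.prime_three (m := 2 ^ 18 * 5 ^ 2 * 7 * 11 * 13 * 17 * 23) ?_ h1).trans
    (by decide +kernel)
  exact ((card_quotient_dvd_card _).trans hH).trans (by decide +kernel)

end Cfsg.Agent.DS.Sp
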