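import Cfsg.Agent.DS.Sp.F24B2
import Cfsg.Agent.DS.Sp.F24A
import Cfsg.Agent.PLocal.OffenderStep

/-!
# The box `BoxBeta` (helper98)
-/

set_option autoImplicit false
set_option linter.style.haveILetI false
set_option linter.unusedSectionVars false

namespace Cfsg.Agent.DS.Sp.F24B

open Subgroup Cfsg Cfsg.Agent.H511.Wt Cfsg.Agent.DS.Ord Cfsg.Agent.H936
open Cfsg.Agent.PLocal.OffenderStep (inf_centralizer_ne_bot)
open scoped commutatorElement

/-- the part of the frame that is used -/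
structure MF {F : Type} [Group F] (K : Subgroup F) (z : F) (R Q : Subgroup F) : Prop where
  z1 : z ≠ 1
  zR : z ∈ R
  zQ : z ∈ Q
  QK : Q ≤ K
  Qz : ∀ g ∈ Q, g * z = z * g
  R2 : IsPGroup 2 R
  sq : ∀ r ∈ R, r * r = 1 ∨ r * r = z
  com : ∀ r ∈ R, ∀ s ∈ R, r * s = s * r ∨ r * s = z * (s * r)
  norm : ∀ g : F, g * z = z * g → ∀ r ∈ R, g * r * g⁻¹ ∈ R
  cent : ∀ g : F, (∀ r ∈ R, g * r = r * g) → g = 1 ∨ g = z
  perf : ⁅Q, Q⁆ = Q

theorem MF.map {F : Type} [Group F] {K : Subgroup F} {z : F} {R Q : Subgroup F} (h : MF K z R Q) (φ : F ≃* F)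
    (hφ : ∀ x ∈ K, φ x ∈ K) : MF K (φ z) (R.map φ.toMonoidHom) (Q.map φ.toMonoidHom) where
  z1 := fun e => h.z1 (φ.map_eq_one_iff.1 e)
  zR := ⟨z, h.zR, rfl⟩
  zQ := ⟨z, h.zQ, rfl⟩
  QK := by
    rintro _ ⟨x, hx, rfl⟩
    exact hφ x (h.QK hx)
  Qz := by
    rintro _ ⟨x, hx, rfl⟩
    show φ x * φ z = φ z * φ x
    rw [← map_mul, h.Qz x hx, map_mul]
  R2 := h.R2.map _
  sq := by
    rintro _ ⟨x, hx, rfl⟩
    show φ x * φ x = 1 ∨ φ x * φ x = φ z
    rw [← map_mul]
    exact (h.sq x hx).imp (fun e => by rw [e, map_one]) fun e => by rw [e]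
  com := by
    rintro _ ⟨x, hx, rfl⟩ _ ⟨y, hy, rfl⟩
    show φ x * φ y = φ y * φ x ∨ φ x * φ y = φ z * (φ y * φ x)
    rw [← map_mul, ← map_mul, ← map_mul]
    exact (h.com x hx y hy).imp (fun e => by rw [e]) fun e => by rw [e]
  norm := by
    rintro g hg _ ⟨x, hx, rfl⟩
    obtain ⟨g, rfl⟩ := φ.surjective g
    rw [← map_mul, ← map_mul] at hg
    refine ⟨_, h.norm g (φ.injective hg) x hx, ?_⟩
    show φ (g * x * g⁻¹) = φ g * φ x * (φ g)⁻¹
    rw [map_mul, map_mul, map_inv]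
  cent := by
    intro g hg
    obtain ⟨g, rfl⟩ := φ.surjective g
    refine (h.cent g fun r hr => φ.injective ?_).imp (fun e => by rw [e, map_one]) fun e => by rw [e]
    rw [map_mul, map_mul]
    exact hg _ ⟨r, hr, rfl⟩
  perf := by rw [← map_commutator, h.perf]

/-- the largest normal `q`-subgroup of a solvable group without other normal subgroups of prime power order -/
theorem exists_core (X : Type) [Group X] [Finite X] [Group.IsSolvable X] (q : ℕ) [Fact q.Prime]
    (h : ∀ r, r.Prime → r ≠ q → ∀ L : Subgroup X, L.Normal → IsPGroup r L → L = ⊥) :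
    ∃ P : Subgroup X, P.Normal ∧ IsPGroup q P ∧ (∀ L : Subgroup X, L.Normal → IsPGroup q L → L ≤ P) ∧
      centralizer (P : Set X) ≤ P := by
  obtain ⟨P, hP⟩ := (Set.toFinite {P : Subgroup X | P.Normal ∧ IsPGroup q P}).exists_maximal
    ⟨⊥, inferInstance, IsPGroup.of_bot⟩
  obtain ⟨hPn, hPq⟩ := hP.prop
  have hmax : ∀ L : Subgroup X, L.Normal → IsPGroup q L → L ≤ P := by
    intro L hL hLq
    exact le_sup_left.trans (hP.le_of_ge ⟨inferInstance, hLq.to_sup_of_normal_right hPq⟩ le_sup_right)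
  have hF : fittingSubgroup X ≤ P := by
    rw [S0009.result]
    refine iSup_le fun r => sSup_le ?_
    rintro L ⟨hL, hLr⟩
    by_cases hr : (r : ℕ) = q
    · exact hmax L hL (hr ▸ hLr)
    · rw [h r r.2 hr L hL hLr]
      exact bot_le
  have hPF : P ≤ fittingSubgroup X := le_sSup ⟨hPn, hPq.isNilpotent⟩
  refine ⟨P, hPn, hPq, hmax, ?_⟩
  rw [le_antisymm hPF hF]
  exact S0044.result

/-- the solvable case -/
theorem beta_abs {F : Type} [Group F] [Finite F] {K H E R Q : Subgroup F} {z : F} (fr : MF K z R Q) (hRH : R ≤ H)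
    (hE : E ≠ ⊥) (hEH : E ≤ H) (hpow : ∀ x ∈ E, x ^ 2 = 1) (hcomm : ∀ x ∈ E, ∀ y ∈ E, x * y = y * x)
    (low : normalizer (E : Set F) ⊓ K ≤ H) (up : H ≤ normalizer (E : Set F))
    (hmin : ∀ E' : Subgroup F, E' ≤ E → H ≤ normalizer (E' : Set F) → E' = ⊥ ∨ E' = E) [Group.IsSolvable H]
    (hodd : ∀ r, r.Prime → r ≠ 2 → ∀ L : Subgroup H, L.Normal → IsPGroup r L → L = ⊥) (hN : Nat.card H ∣ NF) :
    derivedSeries H 9 = ⊥ := by
  haveI : Fact (Nat.Prime 2) := ⟨Nat.prime_two⟩
  obtain ⟨P, hPn, hP2, hmax, hcen⟩ := exists_core H 2 hodd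
  have hE2 : IsPGroup 2 E := fun x => ⟨1, Subtype.ext (by
    show (x : F) ^ 2 ^ 1 = 1
    rw [pow_one, hpow x x.2])⟩
  haveI hEn : (E.subgroupOf H).Normal := normal_subgroupOf_of_le_normalizer up
  have hE2' : IsPGroup 2 (E.subgroupOf H) := hE2.comap_subtype
  have hzE : z ∈ E := by
    obtain ⟨⟨e, he⟩, he1⟩ := (ne_bot_iff_exists_ne_one).1 (inf_centralizer_ne_bot E R hE2 fr.R2 (hRH.trans up) hE)
    rcases fr.cent e (fun r hr => (mem_centralizer_iff.1 he.2 r hr).symm) with e1 | e1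
    · exact absurd (Subtype.ext e1) he1
    · rw [← e1]
      exact he.1
  have hmin' : ∀ N : Subgroup H, N.Normal → N ≤ E.subgroupOf H → N = ⊥ ∨ N = E.subgroupOf H := by
    intro N hN hle
    have h1 : H ≤ normalizer (N.map H.subtype : Set F) := by
      refine le_trans ?_ (le_normalizer_map H.subtype)
      rw [normalizer_eq_top, ← MonoidHom.range_eq_map, range_subtype]
    rcases hmin _ (map_le_iff_le_comap.2 hle) h1 with h2 | h2
    · exact Or.inl ((map_eq_bot_iff_of_injective _ H.subtype_injective).1 h2)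
    · right
      rw [← h2, subgroupOf, comap_map_eq_self_of_injective H.subtype_injective]
  have hz1 : (⟨z, hEH hzE⟩ : H) ≠ 1 := fun e => fr.z1 (congrArg Subtype.val e)
  have hEb : E.subgroupOf H ≠ ⊥ := fun h0 => hz1 (by
    have h1 : (⟨z, hEH hzE⟩ : H) ∈ E.subgroupOf H := hzE
    rwa [h0, mem_bot] at h1)
  have hEP : ∀ e ∈ E.subgroupOf H, ∀ y ∈ P, y * e = e * y := by
    intro e he y hy
    have h1 := (hmin' _ inferInstance inf_le_left).resolve_left
      (inf_centralizer_ne_bot (E.subgroupOf H) P hE2' hP2 (by rw [normalizer_eq_top]; exact le_top) hEb)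
    rw [← h1] at he
    exact mem_centralizer_iff.1 he.2 y hy
  refine Cfg.main (P := P) (E := E.subgroupOf H) (R := R.subgroupOf H) (z := ⟨z, hEH hzE⟩)
    { P2 := hP2
      Ecomm := fun x hx y hy => Subtype.ext (hcomm x hx y hy)
      Epow := fun x hx => Subtype.ext (by
        show (x : F) * x = 1
        rw [← pow_two, hpow x hx])
      Emin := hmin'
      EP := hEP
      zE := hzE
      zP := hmax _ hEn hE2' hzE
      z1 := hz1
      R2 := fr.R2.comap_subtype
      sq := fun r hr => (fr.sq r hr).imp Subtype.ext Subtype.ext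
      com := fun r hr s hs => (fr.com r hr s hs).imp Subtype.ext Subtype.ext
      norm := fun g hg r hr => fr.norm g (congrArg Subtype.val hg) r hr
      cent := fun g hg => (fr.cent g fun r hr => congrArg Subtype.val (hg ⟨r, hRH hr⟩ hr)).imp Subtype.ext Subtype.ext
      RP := fun hRP => ?_ } hmax hcen hN
  have h1 : ∀ e ∈ E, e = 1 ∨ e = z := fun e he => fr.cent e fun r hr =>
    (congrArg Subtype.val (hEP ⟨e, hEH he⟩ he ⟨r, hRH hr⟩ (hRP hr))).symm
  have h2 : Q ≤ H := by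
    intro g hg
    refine low ⟨mem_normalizer_fintype fun e he => ?_, fr.QK hg⟩
    rcases h1 e he with e1 | e1
    · rw [e1, mul_one, mul_inv_cancel]
      exact one_mem _
    · rw [e1, fr.Qz g hg, mul_inv_cancel_right]
      exact hzE
  have h3 : Q.subgroupOf H = ⊥ := eq_bot_of_perfect (by
    rw [← map_le_map_iff_of_injective H.subtype_injective, map_commutator, subgroupOf_map_subtype, inf_eq_left.2 h2,
      fr.perf])
  have h4 : (⟨z, hEH hzE⟩ : H) ∈ Q.subgroupOf H := fr.zQ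
  rw [h3, mem_bot] at h4
  exact hz1 h4

open Cfsg.Spor (Fi24)
open Cfsg.Agent.R08.FiTwentyFour (finite_Fi24)
open Cfsg.Agent.H843.Fi24N (card_Fi24)

theorem mf : MF (commutator Fi24) KFacts.FiTF.Defs.z KFacts.FiTF.Defs.R KFacts.FiTF.Defs.E :=
  have h := KFacts.FiTF.frame
  { z1 := h.z1
    zR := h.zR
    zQ := h.RE h.zR
    QK := h.EK
    Qz := h.Ez
    R2 := IsPGroup.of_card (n := 13) (by rw [h.cardR]; norm_num)
    sq := h.sq
    com := h.com
    norm := h.norm
    cent := h.cent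
    perf := h.perf }

/-- **[Beta]** -/
theorem boxBeta : F24.BoxBeta := by
  intro hA _ H E hL n _ h22
  haveI := finite_Fi24
  haveI : Fact (Nat.Prime 2) := ⟨Nat.prime_two⟩
  have hF : Nat.card H ∣ Nat.card Fi24 := card_subgroup_dvd_card H
  have h23 : ¬ 2 ^ 23 ∣ Nat.card Fi24 := by rw [card_Fi24]; norm_num
  have hN : Nat.card H ∣ NF := by
    have h1 : ¬ 3 ^ 13 ∣ Nat.card H := fun h => hA E 2 hL.toEl (by norm_num) (h.trans (card_dvd_of_le hL.up))
    have h2 : Nat.card H ∣ 3 ^ 16 * (2 ^ 22 * 5 ^ 2 * 7 ^ 3 * 11 * 13 * 17 * 23 * 29) := by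
      rw [card_Fi24] at hF
      exact hF.trans (by norm_num)
    have h3 := dvd_of_not_pow_dvd Nat.prime_three h2 fun h => h1 ((pow_dvd_pow 3 (by norm_num)).trans h)
    have h4 := dvd_of_not_pow_dvd Nat.prime_three h3 fun h => h1 ((pow_dvd_pow 3 (by norm_num)).trans h)
    have h5 := dvd_of_not_pow_dvd Nat.prime_three h4 fun h => h1 ((pow_dvd_pow 3 (by norm_num)).trans h)
    have h6 := dvd_of_not_pow_dvd Nat.prime_three h5 h1
    exact h6.trans (by decide +kernel)
  have h22' : 2 ^ 22 ∣ (derivedSeries H n).index := h22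
  have hH : 2 ^ 22 ∣ Nat.card H := h22'.trans (index_dvd_card _)
  have key : ∀ r, r.Prime → r ≠ 2 → ∀ L : Subgroup H, IsPGroup r L → 2 ^ 22 ∣ Nat.card (normalizer (L : Set H)) →
      L = ⊥ := by
    intro r hr hr2 L hL h1
    by_contra hne
    refine F24.not_two_dvd (E := L.map H.subtype) hr hr2 (hL.map _)
      (by rwa [Ne, map_eq_bot_iff_of_injective _ H.subtype_injective]) (h1.trans ?_)
    rw [← card_map_of_injective H.subtype_injective]
    exact card_dvd_of_le (le_normalizer_map _)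
  have hD : derivedSeries H n = ⊥ := by
    by_contra hne
    obtain ⟨r, hr, hrd⟩ := Nat.exists_prime_and_dvd (n := Nat.card (derivedSeries H n)) fun h =>
      hne (card_eq_one.1 h)
    haveI : Fact r.Prime := ⟨hr⟩
    have hr2 : r ≠ 2 := by
      rintro rfl
      refine h23 (dvd_trans ?_ hF)
      rw [← (derivedSeries H n).card_mul_index, pow_succ']
      exact Nat.mul_dvd_mul hrd h22'
    obtain ⟨S⟩ : Nonempty (Sylow r (derivedSeries H n)) := inferInstance
    have h1 := key r hr hr2 ((S : Subgroup (derivedSeries H n)).map (derivedSeries H n).subtype) (S.isPGroup'.map _) (by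
      refine h22'.trans ?_
      rw [← relIndex_top_right, ← S.normalizer_sup_eq_top, relIndex_sup_right]
      exact relIndex_dvd_card _ _)
    exact S.ne_bot_of_dvd_card hrd ((map_eq_bot_iff_of_injective _ (subtype_injective _)).1 h1)
  haveI : Group.IsSolvable H := ⟨⟨n, hD⟩⟩
  obtain ⟨g, hg⟩ := exists_conj_le H hH h23 mf.R2
  refine PS.of_bot (beta_abs (mf.map (MulAut.conj g) fun x hx => (inferInstance : (commutator Fi24).Normal).conj_mem x hx g)
    hg hL.ne_bot (fun x hx => hL.low ⟨le_normalizer hx, hL.le hx⟩) hL.pow hL.comm hL.low hL.up hL.min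
    (fun r hr hr2 L hLn hLr => key r hr hr2 L hLr ?_) hN)
  rw [normalizer_eq_top, card_top]
  exact hH

end Cfsg.Agent.DS.Sp.F24B
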