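import Cfsg.Prelude.Def_Spor_Fi24
import Cfsg.Agent.DS.Defs
import Cfsg.Agent.DS.Sp.D8Defs

/-!
# S5881, S5882: the pieces of the box `BoxFi24` (helper57); proofs on paper in `notes/DS/fi24.md`

Everything takes place in `Fi24`; `commutator Fi24` is the simple group.
-/

set_option autoImplicit false

namespace Cfsg.Agent.DS.Sp.F24

open Subgroup Cfsg Cfsg.Agent.H936
open Cfsg.Spor (Fi24)

/-- `E` is a nontrivial elementary abelian `r`-subgroup of the simple group -/
structure El (E : Subgroup Fi24) (r : ℕ) : Prop where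
  prime : r.Prime
  ne_bot : E ≠ ⊥
  le : E ≤ commutator Fi24
  pow : ∀ x ∈ E, x ^ r = 1
  comm : ∀ x ∈ E, ∀ y ∈ E, x * y = y * x

/-- `H` is the normalizer of `E` in `Fi24` or in the simple group, and `E` is a minimal normal subgroup of `H` -/
structure LocF (H E : Subgroup Fi24) (r : ℕ) : Prop extends El E r where
  low : normalizer (E : Set Fi24) ⊓ commutator Fi24 ≤ H
  up : H ≤ normalizer (E : Set Fi24)
  min : ∀ E' : Subgroup Fi24, E' ≤ E → H ≤ normalizer (E' : Set Fi24) → E' = ⊥ ∨ E' = E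

/-- [A] the `3`-part of `r`-local subgroups, `r ≠ 3` -/
def BoxA : Prop := ∀ (E : Subgroup Fi24) (r : ℕ), El E r → r ≠ 3 → ¬ 3 ^ 13 ∣ Nat.card (normalizer (E : Set Fi24))

/-- [B] the `2`-part of `r`-local subgroups, `r ≠ 2` -/
def BoxB : Prop := ∀ (E : Subgroup Fi24) (r : ℕ), El E r → r ≠ 2 → ¬ 2 ^ 22 ∣ Nat.card (normalizer (E : Set Fi24))

/-- [Ab] abelian `3`-subgroups -/
def BoxAb : Prop := ∀ A : Subgroup Fi24, IsPGroup 3 A → (∀ x ∈ A, ∀ y ∈ A, x * y = y * x) → Nat.card A ≤ 3 ^ 14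

/-- [Beta] the `2`-local subgroups whose solvable quotient has the full `2`-part -/
def BoxBeta : Prop := BoxA → BoxB → ∀ H E : Subgroup Fi24, LocF H E 2 → ∀ n, PS n H →
  2 ^ 22 ∣ Nat.card (H ⧸ derivedSeries H n) → PS 9 H

/-- [S7] the centralizers of the elementary abelian `3`-subgroups of rank at least two -/
def BoxS7 : Prop := ∀ H E : Subgroup Fi24, LocF H E 3 → 9 ≤ Nat.card E → S7 Fi24 E

/-- [R1] the normalizers of the subgroups of order three -/
def BoxR1 : Prop := Big → ∀ E : Subgroup Fi24, Nat.card E = 3 → 3 ^ 13 ∣ Nat.card (normalizer (E : Set Fi24)) →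
  PS 9 (normalizer (E : Set Fi24))

end Cfsg.Agent.DS.Sp.F24
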