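import Cfsg.Agent.DS.Sp.F24SB
import Cfsg.Agent.DS.Sp.F24Defs
import Cfsg.Agent.DS.Ord.SDO
import Cfsg.Agent.DS.Cl.Vec
import Cfsg.Agent.H840.M499
import Cfsg.Agent.H805.MTwentyFour

/-!
# S5881, S5882, the box `BoxFi24`: the pieces `BoxS7` and `BoxR1` (helper19)
-/

set_option autoImplicit false
set_option maxHeartbeats 400000
set_option maxRecDepth 100000

namespace Cfsg.Agent.DS.Sp.F24S

open Subgroup Cfsg Cfsg.Agent.H936
open Cfsg.Spor (Fi24)
open Cfsg.Agent.R08.FiTwentyFour (L finite_Fi24)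
open Cfsg.Agent.H49.Four.TEight (fgroup24 fgroup24' isT8)

theorem boxS7 : F24.BoxS7 := by
  intro H E hL h9
  have := finite_Fi24
  have hcent : ∀ t ∈ E, centralizer (E : Set Fi24) ≤ centralizer ({t} : Set Fi24) :=
    fun t ht => centralizer_le (Set.singleton_subset_iff.2 ht)
  by_cases c1 : ∃ y ∈ E, y ≠ 1 ∧ Cl 1 y
  · obtain ⟨y, hy, h1, h⟩ := c1
    exact s7_of_good ((good1 (hL.pow y hy) h1 h).mono (hcent y hy))
  by_cases c3 : ∃ y ∈ E, y ≠ 1 ∧ Cl 3 y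
  · obtain ⟨y, hy, h1, h⟩ := c3
    exact s7_three hy (hL.pow y hy) h1 h
  by_cases c4 : ∃ y ∈ E, y ≠ 1 ∧ Cl 4 y
  · obtain ⟨y, hy, h1, h⟩ := c4
    exact s7_of_good ((good4 (hL.pow y hy) h1 h).mono (hcent y hy))
  by_cases c2 : ∃ y ∈ E, y ≠ 1 ∧ Cl 2 y
  · obtain ⟨y, hy, h1, h⟩ := c2
    by_cases hz : ∃ z ∈ E, z ≠ 1 ∧ Cl 2 z ∧ zpowers y ≠ zpowers z
    · obtain ⟨z, hz, z1, cz, hne⟩ := hz
      exact s7_two hy hz (hL.pow y hy) h1 (hL.pow z hz) z1 h cz hne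
    · exfalso
      push Not at hz
      have hn : H ≤ normalizer ((zpowers y : Subgroup Fi24) : Set Fi24) := by
        refine le_normalizer_of ?_
        rintro g hg _ ⟨n, rfl⟩
        have h2 := hz _ ((mem_normalizer_iff.1 (hL.up hg) y).1 hy) (fun h0 => h1 (conj_eq_one_iff.1 h0)) (h.conj g)
        rw [h2, ← conj_zpow]
        exact zpow_mem_zpowers _ n
      have h3 := card_zp (hL.pow y hy) h1
      rcases hL.min _ (zpowers_le.2 hy) hn with h4 | h4
      · exact h1 (zpowers_eq_bot.1 h4)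
      · rw [h4] at h3
        omega
  refine s7_of_good (good_pure hL.pow hL.comm h9 fun x hx h1 => ?_)
  obtain ⟨i, hi⟩ := cl_all (hL.pow x hx) h1
  match i, hi with
  | 0, hi => exact hi
  | 1, hi => exact absurd ⟨x, hx, h1, hi⟩ c1
  | 2, hi => exact absurd ⟨x, hx, h1, hi⟩ c2
  | 3, hi => exact absurd ⟨x, hx, h1, hi⟩ c3
  | 4, hi => exact absurd ⟨x, hx, h1, hi⟩ c4

theorem ps_perm3 : PS 2 (Equiv.Perm (Fin 3)) :=
  DS.Cl.Vec.ps_of_23 1 1 (by rw [Nat.card_eq_fintype_card, Fintype.card_perm]; decide) (by norm_num)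

theorem ps0 {y : Fi24} (h : Cl 0 y) : PS 9 (normalizer ((zpowers y : Subgroup Fi24) : Set Fi24)) := by
  have := finite_Fi24
  obtain ⟨a, ha, b, hb, hab, rfl⟩ := cl0 h
  obtain ⟨-, k1, k2, ⟨e₁⟩, -, ⟨e₂⟩, ⟨hn, ⟨e₃⟩⟩, -⟩ := H840.M499.main fgroup24 ha hb hab
    (H840.M499.all (MulEquiv.refl Fi24) (by simp) ha hb hab) (H805.MTwentyFour.m24_of_isT8 fgroup24' isT8)
    _ _ _ rfl rfl rfl
  have hs : IsSimpleGroup H840.M499.PO := S0296.result 4 le_rfl
  have p1 : PS (0 + 2) (centralizer ({a, b} : Set Fi24)) :=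
    PS.of_normal _ (PS.of_equiv e₂.symm (Gen.ps_zero_of_simple H840.M499.not_comm_PO)) (PS.of_equiv e₃.symm ps_perm3)
  have p2 := PS.of_two (closure ({a, b} : Set Fi24)).subtype (centralizer ({a, b} : Set Fi24)).subtype
    (fun x z => ⟨x, by
      change (z : Fi24) * x * (z : Fi24)⁻¹ = x
      rw [← k1 _ x.2 _ z.2, mul_inv_cancel_right]⟩) (PS.of_equiv e₁.symm ps_perm3) p1
  rw [range_subtype, range_subtype, k2] at p2
  exact p2.mono (by norm_num)

theorem ps1 {y : Fi24} (h3 : y ^ 3 = 1) (h1 : y ≠ 1) (h : Cl 1 y) :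
    PS 9 (normalizer ((zpowers y : Subgroup Fi24) : Set Fi24)) := by
  have := finite_Fi24
  obtain ⟨A, k1, -, k3, k4⟩ := cl1 h3 h1 h
  have hn := normal_of_le k3
  refine PS.of_normal (a := 1) (b := 8) (A.subgroupOf _) (Gen.ps_one_of_comm fun a b => ?_) ?_
  · exact Subtype.ext (Subtype.ext (k1 _ a.2 _ b.2))
  · exact Ord.ps_of_sdOrd (Ord.sdOrd_of (N := 26127360) (by decide +kernel)) _ (dvd_of_eq k4)

open Cfsg.Agent.H841.Tri (NX DN xN es_QQ card_QQ) in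
theorem ps2 (big : Big) {y : Fi24} (h : Cl 2 y) : PS 9 (normalizer ((zpowers y : Subgroup Fi24) : Set Fi24)) := by
  have := finite_Fi24
  obtain ⟨φ, hφ, k1, -⟩ := cl2 h
  rw [← k1]
  refine PS.range φ ?_
  obtain ⟨hn, ⟨e⟩⟩ := H841.Tri.quot_NX
  have hs := H841.Tri.simple_psu5
  have hf : Finite (PSU 5 Lib.FieldFour.F4 2) := Nat.finite_of_card_ne_zero (by rw [H841.Tri.card_psu5]; norm_num)
  have hc : ¬ IsMulCommutative (PSU 5 Lib.FieldFour.F4 2) := by
    intro hc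
    let _ : CommGroup (PSU 5 Lib.FieldFour.F4 2) :=
      { (inferInstance : Group (PSU 5 Lib.FieldFour.F4 2)) with mul_comm := fun a b => hc.1.1 a b }
    have h1 : (Nat.card (PSU 5 Lib.FieldFour.F4 2)).Prime := IsSimpleGroup.prime_card
    rw [H841.Tri.card_psu5] at h1
    have h2 : (2 : ℕ) ∣ 13685760 := by norm_num
    rw [Nat.dvd_prime h1] at h2
    omega
  have p1 : PS (3 + 0) (MulAut (PSU 5 Lib.FieldFour.F4 2)) :=
    DS.Cl.Vec.ps_of_le_range _ (big.sch _ hc) (Gen.ps_zero_of_simple hc)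
  have p2 : PS (1 + 1) (H841.Ext.QQ DN) := by
    refine Gen.ps_of_center (Gen.ps_one_of_comm fun a b => ?_)
    obtain ⟨a, rfl⟩ := QuotientGroup.mk_surjective a
    obtain ⟨b, rfl⟩ := QuotientGroup.mk_surjective b
    rw [← QuotientGroup.mk_mul, ← QuotientGroup.mk_mul, QuotientGroup.eq, es_QQ.center, mem_subgroupOf]
    have h1 := es_QQ.com _ (inv_mem b.2) _ (inv_mem a.2)
    rw [inv_inv, inv_inv] at h1
    simpa only [coe_mul, coe_inv, mul_inv_rev, mul_assoc] using h1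
  exact (PS.of_normal _ p2 (PS.of_equiv e.symm
    (PS.prod ((Gen.ps_one_of_comm mul_comm).mono (by norm_num)) p1))).mono (by norm_num)

theorem not4 {y : Fi24} (h3 : y ^ 3 = 1) (h1 : y ≠ 1) (h : Cl 4 y) :
    ¬ 3 ^ 13 ∣ Nat.card (normalizer ((zpowers y : Subgroup Fi24) : Set Fi24)) := by
  intro hd
  rw [card_eq_mul (cent_le_norm y)] at hd
  have h2 : (centralizer ({y} : Set Fi24)).relIndex (normalizer ((zpowers y : Subgroup Fi24) : Set Fi24)) ∣ 2 := by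
    by_cases hle : normalizer ((zpowers y : Subgroup Fi24) : Set Fi24) ≤ centralizer ({y} : Set Fi24)
    · rw [relIndex_eq_one.2 hle]
      exact one_dvd _
    obtain ⟨a, ha, ha'⟩ := SetLike.not_le_iff_exists.1 hle
    have hm : ∀ g : Fi24, g ∈ centralizer ({y} : Set Fi24) ↔ g * y * g⁻¹ = y := fun g => by
      rw [mem_centralizer_singleton_iff, mul_inv_eq_iff_eq_mul]
    refine relIndex_dvd_two_iff.2 ⟨a, ha, fun b hb => ?_⟩
    rw [hm] at ha'
    rw [hm, hm]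
    have k1 := ((H841.Tri.mem_norm_zp h3 h1).1 ha).resolve_left ha'
    rcases (H841.Tri.mem_norm_zp h3 h1).1 hb with k2 | k2
    · exact Or.inr k2
    · left
      calc b * a * y * (b * a)⁻¹ = b * (a * y * a⁻¹) * b⁻¹ := by group
        _ = (b * y * b⁻¹)⁻¹ := by rw [k1]; group
        _ = y := by rw [k2, inv_inv]
  have h4 := hd.trans (Nat.mul_dvd_mul_right h2 _)
  exact cl4 h ((pow_dvd_pow 3 (by norm_num)).trans (Nat.Coprime.dvd_of_dvd_mul_left (by norm_num) h4))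

theorem boxR1 : F24.BoxR1 := by
  intro big E hE hd
  have := finite_Fi24
  have hne : E ≠ ⊥ := by
    rintro rfl
    rw [card_bot] at hE
    omega
  obtain ⟨⟨y, hy⟩, hy1⟩ := ne_bot_iff_exists_ne_one.1 hne
  have h1 : y ≠ 1 := fun h => hy1 (Subtype.ext h)
  have h3 : y ^ 3 = 1 := by
    have h := pow_card_eq_one' (G := E) (x := ⟨y, hy⟩)
    rw [hE] at h
    exact congrArg Subtype.val h
  obtain rfl : zpowers y = E := eq_of_le_of_card_ge (zpowers_le.2 hy) (by rw [hE, card_zp h3 h1])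
  obtain ⟨i, hi⟩ := cl_all h3 h1
  match i, hi with
  | 0, hi => exact ps0 hi
  | 1, hi => exact ps1 h3 h1 hi
  | 2, hi => exact ps2 big hi
  | 3, hi => exact Ord.ps_of_sdOrd (Ord.sdOrd_of (N := 612220032) (by decide +kernel)) _ (dvd_of_eq (cl3 h3 h1 hi).1)
  | 4, hi => exact absurd hd (not4 h3 h1 hi)

end Cfsg.Agent.DS.Sp.F24S
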