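import Cfsg.Agent.DS.Sp.F24Asm
import Cfsg.Agent.DS.Sp.F24A
import Cfsg.Agent.DS.Sp.F24B3
import Cfsg.Agent.DS.Sp.F24S
import Cfsg.Agent.DS.M.C3

/-! The row of the largest Fischer group. -/

namespace Cfsg.Agent.DS.Sp

theorem boxFi24 : BoxFi24 :=
  F24.boxFi24_of F24.boxA F24.boxB F24.boxAb F24B.boxBeta F24S.boxS7 F24S.boxR1 M.c3

end Cfsg.Agent.DS.Sp
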