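import Cfsg.Agent.DS.Ord.SDO
import Cfsg.Agent.NotCT.Orders
import Cfsg.Agent.H936.DSTits
import Cfsg.Agent.S2060
import Cfsg.Agent.S2061
import Cfsg.Agent.S2062
import Cfsg.Agent.S2063
import Cfsg.Agent.S2064
import Cfsg.Agent.S2065
import Cfsg.Agent.S2066
import Cfsg.Agent.S2067
import Cfsg.Agent.S2068
import Cfsg.Agent.S2069
import Cfsg.Agent.S2070
import Cfsg.Agent.S2071
import Cfsg.Agent.S2072
import Cfsg.Agent.S2073
import Cfsg.Agent.S2074
import Cfsg.Agent.S2075
import Cfsg.Agent.S2076
import Cfsg.Agent.S2077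
import Cfsg.Agent.S2078
import Cfsg.Agent.S2079
import Cfsg.Agent.S2082
import Cfsg.Agent.S2083

/-!
# S5881, S5882: the sporadic boxes decided by the order (helper57)
-/

set_option autoImplicit false

namespace Cfsg.Agent.DS.Sp

open Cfsg Cfsg.Agent.H936 Cfsg.Agent.DS.Ord Cfsg.Agent.NotCT Subgroup

theorem boxSporSmall : BoxSporSmall := by
  intro _ G _ _ S H E r hL h
  have hs := hL.toSetup
  rcases h with h | h | h | h | h | h | h | h | h | h | h | h | h | h | h | h | h
  · exact ps_of_orders sdOrd_NA hs (Orders.m11 h) (card_out_of h S2060.result) (by decide +kernel)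
  · exact ps_of_orders sdOrd_NA hs (Orders.m12 h) (card_out_of h S2061.result) (by decide +kernel)
  · exact ps_of_orders sdOrd_NA hs (Orders.m22 h) (card_out_of h S2062.result) (by decide +kernel)
  · exact ps_of_orders sdOrd_NA hs (Orders.m23 h) (card_out_of h S2063.result) (by decide +kernel)
  · exact ps_of_orders sdOrd_NA hs (Orders.m24 h) (card_out_of h S2064.result) (by decide +kernel)
  · exact ps_of_orders sdOrd_NA hs (Orders.j1 h) (card_out_of h S2065.result) (by decide +kernel)
  · exact ps_of_orders sdOrd_NA hs (Orders.j2 h) (card_out_of h S2066.result) (by decide +kernel)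
  · have h1 := Orders.j3 h
    obtain ⟨F, _, _, ω, hF, hω, h⟩ := h
    exact ps_of_orders sdOrd_NA hs h1 (card_out_of h (S2067.result hF ω hω)) (by decide +kernel)
  · exact ps_of_orders sdOrd_NA hs (Orders.j4 h) (card_out_of h S2068.result) (by decide +kernel)
  · exact ps_of_orders sdOrd_NA hs (Orders.co3 h) (card_out_of h S2071.result) (by decide +kernel)
  · exact ps_of_orders sdOrd_NA hs (Orders.mcl h) (card_out_of h S2073.result) (by decide +kernel)
  · exact ps_of_orders sdOrd_NA hs (Orders.hs h) (card_out_of h S2072.result) (by decide +kernel)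
  · exact ps_of_orders sdOrd_NA hs (Orders.suz h) (card_out_of h S2074.result) (by decide +kernel)
  · exact ps_of_orders sdOrd_NA hs (Orders.he h) (card_out_of h S2075.result) (by decide +kernel)
  · exact ps_of_orders sdOrd_NA hs (Orders.ru h) (card_out_of h S2077.result) (by decide +kernel)
  · exact ps_of_orders sdOrd_NA hs (Orders.on h) (card_out_of h S2078.result) (by decide +kernel)
  · exact ps_of_orders sdOrd_NA hs (Orders.ly h) (card_out_of h S2076.result) (by decide +kernel)

theorem boxCo1 : BoxCo1 := fun _ _ _ _ _ _ _ _ hL h =>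
  ps_of_orders sdOrd_NA hL.toSetup (Orders.co1 h) (card_out_of h S2069.result) (by decide +kernel)

theorem boxCo2 : BoxCo2 := fun _ _ _ _ _ _ _ _ hL h =>
  ps_of_orders sdOrd_NA hL.toSetup (Orders.co2 h) (card_out_of h S2070.result) (by decide +kernel)

theorem boxFi22 : BoxFi22 := fun _ _ _ _ _ _ _ _ hL h =>
  ps_of_orders sdOrd_NA hL.toSetup (Orders.fi22 h) (card_out_of h S2079.result) (by decide +kernel)

theorem boxHN : BoxHN := fun _ _ _ _ _ _ _ _ hL h =>
  ps_of_orders sdOrd_NA hL.toSetup (Orders.hn h) (card_out_of h S2082.result) (by decide +kernel)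

theorem boxTh : BoxTh := fun _ _ _ _ _ _ _ _ hL h =>
  ps_of_orders sdOrd_NA hL.toSetup (Orders.th h) (card_out_of h S2083.result) (by decide +kernel)

theorem out_tits_TT : Nat.card (Cfsg.Out ↥Cfsg.Agent.TitsK.TT) ∣ 2 := by
  have hfin : Finite Cfsg.Agent.FourTwo.Base.LL := Cfsg.Agent.FourTwo.Perf.instFiniteLL
  have h := Cfsg.Agent.TitsK.tdata.index_inn
  refine dvd_trans ?_ h
  exact dvd_refl _

theorem out_tits {K : Type*} [Group K] (h : Lie.IsoTits K) : Nat.card (Cfsg.Out K) ∣ 2 := by
  obtain ⟨e⟩ := h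
  obtain ⟨e'⟩ := Cfsg.Agent.TitsK.exists_equiv
  have h1 := out_tits_TT
  have e2 := e.trans e'
  have h3 := H934.OutB.card_out_congr (Y := ↥Cfsg.Agent.TitsK.TT) e2
  rw [h3]
  exact h1

theorem boxTits : BoxTits := fun _ _ _ _ _ _ _ _ hL h =>
  ps_of_orders sdOrd_NA hL.toSetup (Orders.tits h) (out_tits h) (by decide +kernel)

/-- the square of the smallest prime divisor divides the order of a non-abelian simple group -/
theorem exists_sq_dvd (U : Type*) [Group U] [Finite U] [IsSimpleGroup U] (h : ¬ IsMulCommutative U) :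
    ∃ p : ℕ, p.Prime ∧ p ^ 2 ∣ Nat.card U := by
  have h1 : Nat.card U ≠ 1 := Finite.one_lt_card.ne'
  have hp := Nat.minFac_prime h1
  refine ⟨_, hp, ?_⟩
  set p := (Nat.card U).minFac with hpdef
  have : Fact p.Prime := ⟨hp⟩
  by_contra hnd
  obtain ⟨P⟩ : Nonempty (Sylow p U) := inferInstance
  have h2 : Nat.card P = p := by
    rw [P.card_eq_multiplicity]
    have h3 : (Nat.card U).factorization p < 2 := by
      by_contra hlt
      exact hnd ((hp.pow_dvd_iff_le_factorization Nat.card_pos.ne').2 (by omega))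
    have h4 : 1 ≤ (Nat.card U).factorization p :=
      (hp.dvd_iff_one_le_factorization Nat.card_pos.ne').1 (Nat.minFac_dvd _)
    rw [show (Nat.card U).factorization p = 1 by omega, pow_one]
  have hc : IsCyclic P := isCyclic_of_prime_card h2
  have h3 := hc.isComplement' hpdef.symm
  rcases (MonoidHom.normal_ker (MonoidHom.transferSylow P (hc.normalizer_le_centralizer hpdef.symm))).eq_bot_or_eq_top
    with h4 | h4
  · rw [h4, isComplement'_bot_left] at h3
    apply h
    have h5 : Nat.card U = p := by rw [← h2, h3, card_top]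
    have : IsCyclic U := isCyclic_of_prime_card h5
    exact IsCyclic.isMulCommutative
  · rw [h4, isComplement'_top_left] at h3
    rw [h3, card_bot] at h2
    exact hp.one_lt.ne h2

/-- a common multiple of the orders of the sporadic groups -/
def NS : ℕ := 808017424794512875886459904961710757005754368000000000 * 11 * 37 * 43 * 67

theorem card_dvd_NS {T : Type*} [Group T] (h : IsSporadicGroup T) : Nat.card T ∣ NS := by
  rcases h with h | h | h | h | h | h | h | h | h | h | h | h | h | h | h | h | h | h | h |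
      h | h | h | h | h | h | h
  · rw [Orders.m11 h]; decide +kernel
  · rw [Orders.m12 h]; decide +kernel
  · rw [Orders.m22 h]; decide +kernel
  · rw [Orders.m23 h]; decide +kernel
  · rw [Orders.m24 h]; decide +kernel
  · rw [Orders.j1 h]; decide +kernel
  · rw [Orders.j2 h]; decide +kernel
  · rw [Orders.j3 h]; decide +kernel
  · rw [Orders.j4 h]; decide +kernel
  · rw [Orders.co1 h]; decide +kernel
  · rw [Orders.co2 h]; decide +kernel
  · rw [Orders.co3 h]; decide +kernel
  · rw [Orders.mcl h]; decide +kernel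
  · rw [Orders.hs h]; decide +kernel
  · rw [Orders.suz h]; decide +kernel
  · rw [Orders.he h]; decide +kernel
  · rw [Orders.ru h]; decide +kernel
  · rw [Orders.on h]; decide +kernel
  · rw [Orders.ly h]; decide +kernel
  · rw [Orders.fi22 h]; decide +kernel
  · rw [Orders.fi23 h]; decide +kernel
  · rw [Orders.fi24 h]; decide +kernel
  · rw [Orders.hn h]; decide +kernel
  · rw [Orders.th h]; decide +kernel
  · rw [Orders.b h]; decide +kernel
  · rw [Orders.m h]; decide +kernel

theorem not_pow_dvd_NS {p : ℕ} (hp : p.Prime) : ¬ p ^ 50 ∣ NS := by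
  intro h
  have h1 : p < 20 := by
    by_contra hlt
    have h2 : 20 ^ 50 ≤ p ^ 50 := Nat.pow_le_pow_left (by omega) 50
    have h3 : p ^ 50 ≤ NS := Nat.le_of_dvd (by decide +kernel) h
    exact absurd (h2.trans h3) (by decide +kernel)
  have key : ∀ p < 20, 2 ≤ p → ¬ p ^ 50 ∣ NS := by decide +kernel
  exact key p h1 hp.two_le h

theorem boxSporRank : BoxSporRank := by
  intro _ T _ _ hT U _ _ _ hU k f hf
  obtain ⟨p, hp, hpd⟩ := exists_sq_dvd U hU
  by_contra hk
  apply not_pow_dvd_NS hp
  refine dvd_trans ?_ ((card_dvd_of_injective f hf).trans (card_dvd_NS hT))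
  rw [Nat.card_fun, Nat.card_eq_fintype_card (α := Fin k), Fintype.card_fin]
  refine dvd_trans ?_ (pow_dvd_pow_of_dvd hpd k)
  rw [← pow_mul]
  exact pow_dvd_pow p (by omega)

end Cfsg.Agent.DS.Sp
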