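import Cfsg.Agent.DS.Sp.F24Defs
import Cfsg.Agent.DS.Sp.D8A
import Cfsg.Agent.DS.M.C3Defs
import Cfsg.Agent.DS.Gen.Split
import Cfsg.Agent.DS.Ord.SDO
import Cfsg.Agent.H816.Fin24

/-!
# S5881, S5882: the box `BoxFi24` from its pieces (helper57)
-/

set_option autoImplicit false
set_option linter.style.haveILetI false

namespace Cfsg.Agent.DS.Sp.F24

open Subgroup Cfsg Cfsg.Agent.H936 Cfsg.Agent.H511.Wt Cfsg.Agent.DS.Ord
open Cfsg.Spor (Fi24)
open Cfsg.Agent.R08.FiTwentyFour (finite_Fi24 index_commutator card_commutator)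
open scoped commutatorElement

theorem cardF_asm : Nat.card Fi24 = 2 ^ 22 * 3 ^ 16 * (5 ^ 2 * 7 ^ 3 * 11 * 13 * 17 * 23 * 29) := by
  rw [← (commutator Fi24).card_mul_index, index_commutator, card_commutator]
  norm_num

theorem dvd_of_not_pow {a p k l m : ℕ} (hp : p.Prime) (h : a ∣ p ^ l * m) (h1 : ¬ p ^ (k + 1) ∣ a) :
    a ∣ p ^ k * m := by
  obtain ⟨a1, a2, h2, h3, rfl⟩ := exists_dvd_and_dvd_of_dvd_mul h
  obtain ⟨i, _, rfl⟩ := (Nat.dvd_prime_pow hp).1 h2
  have h4 : i ≤ k := by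
    by_contra hlt
    exact h1 ((pow_dvd_pow p (by omega)).trans (dvd_mul_right _ _))
  exact Nat.mul_dvd_mul (pow_dvd_pow p h4) h3

/-- the embedding of the almost simple group -/
theorem exists_embF {G : Type} [Group G] [Finite G] {S H : Subgroup G} (hs : Setup S H) (e : S ≃* Spor.Fi24') :
    ∃ f : G →* Fi24, Function.Injective f ∧ S.map f = commutator Fi24 := by
  have hN := hs.normal
  have hb : Function.Bijective (MulAut.conjNormal : Fi24 →* MulAut (commutator Fi24)) := by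
    refine ⟨?_, fun α => ?_⟩
    · rw [injective_iff_map_eq_one]
      intro g hg
      rw [← mem_bot, ← H816.Fin24.centralizer_commutator, mem_centralizer_iff]
      intro y hy
      have h2 := congrArg Subtype.val (DFunLike.congr_fun hg ⟨y, hy⟩)
      have h3 : g * y * g⁻¹ = y := h2
      calc y * g = g * y * g⁻¹ * g := by rw [h3]
        _ = g * y := by group
    · obtain ⟨g, hg⟩ := KFacts.FiTF.exists_conj α
      exact ⟨g, MulEquiv.ext fun x => Subtype.ext (hg x).symm⟩
  have h1 : Function.Injective (MulAut.conjNormal : G →* MulAut S) := by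
    rw [injective_iff_map_eq_one]
    intro g hg
    rw [← mem_bot, ← hs.cent, mem_centralizer_iff]
    intro y hy
    have h2 := congrArg Subtype.val (DFunLike.congr_fun hg ⟨y, hy⟩)
    have h3 : g * y * g⁻¹ = y := h2
    calc y * g = g * y * g⁻¹ * g := by rw [h3]
      _ = g * y := by group
  let c := MulEquiv.ofBijective _ hb
  let f : G →* Fi24 := c.symm.toMonoidHom.comp ((MulAut.congr e).toMonoidHom.comp MulAut.conjNormal)
  have hf : ∀ s : S, f s = (e s : Fi24) := by
    intro s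
    change c.symm (MulAut.congr e (MulAut.conjNormal (s : G))) = _
    rw [MulEquiv.symm_apply_eq]
    refine MulEquiv.ext fun x => ?_
    change e (MulAut.conjNormal (s : G) (e.symm x)) = MulAut.conjNormal (e s : Fi24) x
    have h2 : MulAut.conjNormal (s : G) (e.symm x) = s * e.symm x * s⁻¹ := rfl
    rw [h2, map_mul, map_mul, map_inv, MulEquiv.apply_symm_apply]
    rfl
  refine ⟨f, c.symm.injective.comp ((MulAut.congr e).injective.comp h1), le_antisymm ?_ ?_⟩
  · rintro _ ⟨s, hs, rfl⟩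
    rw [hf ⟨s, hs⟩]
    exact (e ⟨s, hs⟩).2
  · intro x hx
    refine ⟨e.symm ⟨x, hx⟩, (e.symm ⟨x, hx⟩).2, ?_⟩
    rw [hf, MulEquiv.apply_symm_apply]

theorem locF_of {G : Type} [Group G] {S H E : Subgroup G} {r : ℕ} (hL : Loc S H E r) {f : G →* Fi24}
    (hf : Function.Injective f) (hS : S.map f = commutator Fi24) : LocF (H.map f) (E.map f) r where
  prime := hL.prime
  ne_bot := fun h => hL.ne_bot ((map_eq_bot_iff_of_injective E hf).1 h)
  le := hS ▸ map_mono hL.le_S
  pow := by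
    rintro _ ⟨x, hx, rfl⟩
    rw [← map_pow, hL.pow x hx, map_one]
  comm := by
    rintro _ ⟨x, hx, rfl⟩ _ ⟨y, hy, rfl⟩
    rw [← map_mul, hL.comm x hx y hy, map_mul]
  low := by
    rintro x ⟨hx, hx'⟩
    rw [← hS] at hx'
    obtain ⟨s, -, rfl⟩ := hx'
    refine ⟨s, ?_, rfl⟩
    have h1 := le_normalizer_comap (H := E.map f) f hx
    rwa [comap_map_eq_self_of_injective hf, hL.norm] at h1
  up := hL.norm ▸ le_normalizer_map f
  min := by
    intro E' h1 h2
    have h3 : E' ≤ f.range := h1.trans (map_le_range f E)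
    have h4 := hL.min (E'.comap f) (by rw [← comap_map_eq_self_of_injective hf E]; exact comap_mono h1)
      ((map_le_iff_le_comap.1 h2).trans (le_normalizer_comap f))
    rw [← map_comap_eq_self h3]
    exact h4.imp (fun h => by rw [h, Subgroup.map_bot]) fun h => by rw [h]

theorem map_inf_comap' {Z : Type*} [Group Z] (f : Z →* Fi24) (U : Subgroup Z) (C : Subgroup Fi24) :
    (U ⊓ C.comap f).map f = U.map f ⊓ C := by
  refine le_antisymm ((map_inf_le _ _ f).trans (inf_le_inf_left _ (map_comap_le f C))) ?_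
  rintro _ ⟨⟨x, hx, rfl⟩, hx'⟩
  exact ⟨x, ⟨hx, hx'⟩, rfl⟩

theorem s7_comap {Z : Type} [Group Z] {f : Z →* Fi24} (hf : Function.Injective f) {E : Subgroup Fi24}
    (hE : E ≤ f.range) (hS : S7 Fi24 E) : S7 Z (E.comap f) := by
  have hc : (centralizer (E.comap f : Set Z)).map f ≤ centralizer (E : Set Fi24) := by
    rintro _ ⟨z, hz, rfl⟩
    rw [mem_centralizer_iff]
    intro x hx
    obtain ⟨y, rfl⟩ := hE hx
    rw [← map_mul, mem_centralizer_iff.1 hz y hx, map_mul]
  rcases hS with hS | ⟨C1, C2, h21, h1, h2, hS⟩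
  · left
    refine fun h => hS (h.trans ?_)
    rw [← card_map_of_injective hf]
    refine card_dvd_of_le ((map_inf_le _ _ f).trans (inf_le_inf hc ?_))
    rw [_root_.commutator_def, map_commutator]
    exact commutator_mono le_top le_top
  · right
    refine ⟨C1.comap f, C2.comap f, comap_mono h21, (map_le_iff_le_comap.1 (hc.trans h1)).trans (le_normalizer_comap f),
      (map_le_iff_le_comap.1 (hc.trans h2)).trans (le_normalizer_comap f), fun U hU hU3 => ?_⟩
    obtain ⟨b1, b2, b3⟩ := hS (U.map f) ((map_mono hU).trans hc) (hU3.map f)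
    refine ⟨by rwa [relIndex_comap], by rwa [relIndex_comap, map_inf_comap'], ?_⟩
    rwa [← card_map_of_injective hf, map_inf_comap']

/-- theorem `C3` for a subgroup of `Fi24` -/
theorem core (hAb : BoxAb) (h3 : M.C3) {Z : Type} [Group Z] [Finite Z] [Group.IsSolvable Z] {f : Z →* Fi24}
    (hf : Function.Injective f) {E : Subgroup Fi24} (hE : El E 3) (hS : S7 Fi24 E) (hEZ : E ≤ f.range)
    (hn : f.range ≤ normalizer (E : Set Fi24))
    (hno : ∀ r : ℕ, r.Prime → r ≠ 3 → ∀ M : Subgroup Z, M.Normal → IsPGroup r M → M = ⊥) :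
    derivedSeries Z 9 = ⊥ := by
  haveI : Fact (Nat.Prime 3) := ⟨Nat.prime_three⟩
  haveI : (E.comap f).Normal := by
    rw [← normalizer_eq_top_iff, eq_top_iff]
    exact fun z _ => le_normalizer_comap f (hn ⟨z, rfl⟩)
  obtain ⟨P, hP⟩ := (Set.toFinite {P : Subgroup Z | P.Normal ∧ IsPGroup 3 P}).exists_maximal
    ⟨⊥, inferInstance, IsPGroup.of_bot⟩
  obtain ⟨hPn, hPq⟩ := hP.prop
  have hmax : ∀ L : Subgroup Z, L.Normal → IsPGroup 3 L → L ≤ P := by
    intro L hL hLq
    exact le_sup_left.trans (hP.le_of_ge ⟨inferInstance, hLq.to_sup_of_normal_right hPq⟩ le_sup_right)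
  have hF : fittingSubgroup Z ≤ P := by
    rw [S0009.result]
    refine iSup_le fun r => sSup_le ?_
    rintro L ⟨hL, hLr⟩
    by_cases hr : (r : ℕ) = 3
    · exact hmax L hL (hr ▸ hLr)
    · rw [hno r r.2 hr L hL hLr]
      exact bot_le
  have hPF : P ≤ fittingSubgroup Z := le_sSup ⟨hPn, hPq.isNilpotent⟩
  have hd : Nat.card Z ∣ Nat.card Fi24 := card_dvd_of_injective f hf
  rw [cardF_asm] at hd
  refine h3 Z P (E.comap f) (hd.trans (by decide +kernel)) hPq hmax (by rw [le_antisymm hPF hF]; exact S0044.result)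
    (fun x hx y hy => hf (by rw [map_mul, map_mul, hE.comm _ hx _ hy]))
    (fun x hx => hf (by rw [map_pow, map_one, hE.pow _ hx]))
    (Or.inr fun h => absurd (h.trans hd) (by decide +kernel)) (fun A hA hc => ?_) (s7_comap hf hEZ hS)
  rw [← card_map_of_injective hf]
  refine hAb _ (hA.map f) ?_
  rintro _ ⟨x, hx, rfl⟩ _ ⟨y, hy, rfl⟩
  rw [← map_mul, hc x hx y hy, map_mul]

theorem no_normal (hA : BoxA) {Z : Type} [Group Z] [Finite Z] [Group.IsSolvable Z] {f : Z →* Fi24}
    (hf : Function.Injective f) (hZ : f.range ≤ commutator Fi24) (h13 : 3 ^ 13 ∣ Nat.card Z) (r : ℕ) (hr : r.Prime)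
    (hr3 : r ≠ 3) (M : Subgroup Z) (hM : M.Normal) (hMr : IsPGroup r M) : M = ⊥ := by
  haveI := finite_Fi24
  by_contra h0
  obtain ⟨k, hk, hk1⟩ : ∃ k, dser M k ≠ ⊥ ∧ dser M (k + 1) = ⊥ := by
    classical
    have hex := exists_dser_eq_bot M
    obtain ⟨d, hd⟩ : ∃ d, Nat.find hex = d + 1 := by
      refine Nat.exists_eq_succ_of_ne_zero fun h1 => h0 ?_
      have := Nat.find_spec hex
      rwa [h1] at this
    exact ⟨d, Nat.find_min hex (by omega), hd ▸ Nat.find_spec hex⟩
  obtain ⟨E, s, hEA, hs, hE0, hpow, hEn, -⟩ := Gen.exists_elab (H := ⊤) (A := dser M k)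
    (by rw [normalizer_eq_top]) hk (fun x hx y hy => by
      have h1 : ⁅x, y⁆ ∈ dser M (k + 1) := commutator_mem_commutator hx hy
      rwa [hk1, mem_bot, commutatorElement_eq_one_iff_mul_comm] at h1)
  obtain ⟨⟨x, hx⟩, hx1⟩ := ne_bot_iff_exists_ne_one.1 hE0
  haveI : Fact s.Prime := ⟨hs⟩
  have h3 : orderOf x = s := orderOf_eq_prime (hpow x hx) fun h => hx1 (Subtype.ext h)
  obtain ⟨j, hj⟩ := hMr ⟨x, dser_le M k (hEA hx)⟩
  have h4 : s ∣ r ^ j := h3 ▸ orderOf_dvd_of_pow_eq_one (congrArg Subtype.val hj)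
  obtain rfl : s = r := (Nat.prime_dvd_prime_iff_eq hs hr).1 (hs.dvd_of_dvd_pow h4)
  refine hA (E.map f) s ⟨hs, fun h => hE0 ((map_eq_bot_iff_of_injective E hf).1 h), (map_le_range f E).trans hZ, ?_, ?_⟩
    hr3 (h13.trans ?_)
  · rintro _ ⟨y, hy, rfl⟩
    rw [← map_pow, hpow y hy, map_one]
  · rintro _ ⟨y, hy, rfl⟩ _ ⟨w, hw, rfl⟩
    have h1 : ⁅y, w⁆ ∈ dser M (k + 1) := commutator_mem_commutator (hEA hy) (hEA hw)
    rw [hk1, mem_bot, commutatorElement_eq_one_iff_mul_comm] at h1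
    rw [← map_mul, h1, map_mul]
  · rw [← card_top, ← card_map_of_injective hf]
    exact card_dvd_of_le ((map_mono hEn).trans (le_normalizer_map f))

/-- solvable subgroups of `N(E)` containing `E` -/
theorem sol_three (hA : BoxA) (hAb : BoxAb) (h3 : M.C3) {Z : Type} [Group Z] [Finite Z] [Group.IsSolvable Z]
    {f : Z →* Fi24} (hf : Function.Injective f) {E : Subgroup Fi24} (hE : El E 3) (hS : S7 Fi24 E)
    (hEZ : E ≤ f.range) (hn : f.range ≤ normalizer (E : Set Fi24)) (h13 : 3 ^ 13 ∣ Nat.card Z) :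
    derivedSeries Z 9 = ⊥ := by
  set Z0 := (commutator Fi24).comap f with hZ0
  have hi : Z0.index ∣ 2 := by
    rw [hZ0, index_comap, ← index_commutator]
    exact relIndex_dvd_index_of_normal _ _
  have h130 : 3 ^ 13 ∣ Nat.card Z0 := by
    rw [← Z0.card_mul_index] at h13
    exact Nat.Coprime.dvd_of_dvd_mul_right (Nat.Coprime.coprime_dvd_right hi (by norm_num)) h13
  have hf0 : Function.Injective (f.comp Z0.subtype) := hf.comp Z0.subtype_injective
  have hr0 : (f.comp Z0.subtype).range ≤ commutator Fi24 := by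
    rintro _ ⟨z, rfl⟩
    exact z.2
  have hno := no_normal hA hf0 hr0 h130
  by_cases h : ∀ r : ℕ, r.Prime → r ≠ 3 → ∀ M : Subgroup Z, M.Normal → IsPGroup r M → M = ⊥
  · exact core hAb h3 hf hE hS hEZ hn h
  push Not at h
  obtain ⟨r, hr, hr3, M, hM, hMr, hM0⟩ := h
  have h0 := core hAb h3 hf0 hE hS (fun x hx => by
    obtain ⟨z, rfl⟩ := hEZ hx
    exact ⟨⟨z, hE.le hx⟩, rfl⟩) (fun _ ⟨z, hz⟩ => hn ⟨z, hz⟩) hno
  have h1 : M ⊓ Z0 = ⊥ := by
    have h2 := hno r hr hr3 (M.subgroupOf Z0) inferInstance hMr.comap_subtype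
    rwa [subgroupOf_eq_bot, disjoint_iff] at h2
  have hcm : commutator Z ≤ Z0 := by
    rw [hZ0, ← map_le_iff_le_comap, _root_.commutator_def, map_commutator]
    exact commutator_mono le_top le_top
  have h2 : ∀ X : Subgroup Z, ⁅X, M⁆ ≤ ⊥ := fun X => by
    rw [← h1]
    exact le_inf (commutator_le_right X M) ((commutator_mono le_top le_top).trans hcm)
  have h4 : Z0 ⊔ M = ⊤ := by
    rw [← index_eq_one]
    have h5 : (Z0 ⊔ M).index ∣ Z0.index := index_dvd_of_le le_sup_left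
    rcases (Nat.dvd_prime Nat.prime_two).1 (h5.trans hi) with h6 | h6
    · exact h6
    · exfalso
      have h7 : Z0.index = 2 := Nat.dvd_antisymm hi (h6 ▸ h5)
      have h8 := relIndex_mul_index (le_sup_left : Z0 ≤ Z0 ⊔ M)
      rw [h6, h7] at h8
      have h9 : Z0.relIndex (Z0 ⊔ M) = 1 := by omega
      rw [relIndex_eq_one] at h9
      exact hM0 (by rw [← h1, inf_eq_left.2 (le_sup_right.trans h9)])
  rw [← dser_top, ← h4, eq_bot_iff]
  refine (dser_sup_le (h2 Z0) 9).trans (sup_le (sup_le ((dser_eq_bot_iff Z0 9).2 h0).le ?_) le_rfl)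
  exact (dser_anti M (show 1 ≤ 9 by norm_num)).trans (h2 M)

theorem ps_locF (big : Big) (hA : BoxA) (hB : BoxB) (hAb : BoxAb) (hβ : BoxBeta) (hS : BoxS7) (hR : BoxR1)
    (h3 : M.C3) {H E : Subgroup Fi24} {r : ℕ} (hL : LocF H E r) : PS 9 H := by
  haveI := finite_Fi24
  obtain ⟨n, hn⟩ := exists_ps H
  have hq : Nat.card (H ⧸ derivedSeries H n) ∣ Nat.card H := card_quotient_dvd_card _
  have hHN : Nat.card H ∣ Nat.card (normalizer (E : Set Fi24)) := card_dvd_of_le hL.up
  by_cases h22 : 2 ^ 22 ∣ Nat.card (H ⧸ derivedSeries H n)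
  · obtain rfl : r = 2 := by
      by_contra h
      exact hB E r hL.toEl h (h22.trans (hq.trans hHN))
    exact hβ hA hB H E hL n hn h22
  by_cases h13 : 3 ^ 13 ∣ Nat.card (H ⧸ derivedSeries H n)
  swap
  · refine ps_of_quot hn (sdOrd_NA _ (quot_solvable H n) ?_)
    have h1 := hq.trans (card_subgroup_dvd_card H)
    rw [cardF_asm, mul_assoc] at h1
    have h2 := dvd_of_not_pow (k := 21) Nat.prime_two h1 h22
    rw [mul_left_comm] at h2
    exact (dvd_of_not_pow (k := 12) Nat.prime_three h2 h13).trans (by decide +kernel)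
  obtain rfl : r = 3 := by
    by_contra h
    exact hA E r hL.toEl h (h13.trans (hq.trans hHN))
  haveI : Fact (Nat.Prime 3) := ⟨Nat.prime_three⟩
  have hE3 : IsPGroup 3 E := fun x => ⟨1, Subtype.ext (by rw [pow_one]; exact hL.pow x x.2)⟩
  obtain ⟨k, hk⟩ := IsPGroup.iff_card.1 hE3
  by_cases hk1 : k = 1
  · rw [hk1, pow_one] at hk
    have h1 := (hR big E hk (h13.trans (hq.trans hHN))).of_le (P' := H.subgroupOf _) (fun x hx => hL.low ⟨x.2, by
      have h2 := map_derivedSeries_le_derivedSeries (normalizer (E : Set Fi24)).subtype 1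
        ⟨x, derivedSeries_antitone _ (show 1 ≤ 9 by norm_num) hx, rfl⟩
      exact h2⟩)
    exact h1.of_equiv (subgroupOfEquivOfLe hL.up)
  have h9 : 9 ≤ Nat.card E := by
    have h1 : k ≠ 0 := by
      rintro rfl
      exact hL.ne_bot (card_eq_one.1 hk)
    rw [hk]
    exact Nat.pow_le_pow_right (n := 3) (i := 2) (by norm_num) (by omega)
  have hEH : E ≤ H := (le_inf le_normalizer hL.le).trans hL.low
  haveI : (E.subgroupOf H).Normal := normal_subgroupOf_of_le_normalizer hL.up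
  obtain ⟨Y, hY, hsup⟩ := Gen.exists_solvable_supplement (derivedSeries H n) (quot_solvable H n)
  set Z := E.subgroupOf H ⊔ Y with hZ
  haveI : Group.IsSolvable Z := by
    haveI := (hE3.of_equiv (subgroupOfEquivOfLe hEH).symm).isNilpotent
    haveI : Group.IsSolvable (Y.map (QuotientGroup.mk' (E.subgroupOf H))) :=
      Group.isSolvable_of_surjective ((QuotientGroup.mk' (E.subgroupOf H)).subgroupMap_surjective Y)
    refine Group.isSolvable_of_ker_le_range (inclusion (le_sup_left : E.subgroupOf H ≤ Z))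
      (((QuotientGroup.mk' (E.subgroupOf H)).comp Z.subtype).codRestrict (Y.map (QuotientGroup.mk' _)) ?_) ?_
    · rintro ⟨x, hx⟩
      obtain ⟨a, ha, y, hy, rfl⟩ := mem_sup_of_normal_left.1 hx
      refine ⟨y, hy, ?_⟩
      change _ = QuotientGroup.mk' _ (a * y)
      rw [map_mul, show QuotientGroup.mk' (E.subgroupOf H) a = 1 from (QuotientGroup.eq_one_iff a).2 ha, one_mul]
    · intro x hx
      have h1 : QuotientGroup.mk' (E.subgroupOf H) (x : H) = 1 := congrArg Subtype.val hx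
      exact ⟨⟨x, (QuotientGroup.eq_one_iff _).1 h1⟩, rfl⟩
  have hs : Function.Surjective ((QuotientGroup.mk' (derivedSeries H n)).comp Z.subtype) := by
    intro z
    obtain ⟨g, rfl⟩ := QuotientGroup.mk'_surjective _ z
    have h2 : g ∈ derivedSeries H n ⊔ Y := by rw [hsup]; exact mem_top g
    obtain ⟨x, hx, a, ha, rfl⟩ := mem_sup_of_normal_left.1 h2
    refine ⟨⟨a, mem_sup_right ha⟩, ?_⟩
    change QuotientGroup.mk' _ a = _
    rw [map_mul, show QuotientGroup.mk' (derivedSeries H n) x = 1 from (QuotientGroup.eq_one_iff x).2 hx, one_mul]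
  have h1 := sol_three hA hAb h3 (f := H.subtype.comp Z.subtype) (H.subtype_injective.comp Z.subtype_injective)
    hL.toEl (hS H E hL h9) (fun x hx => ⟨⟨⟨x, hEH hx⟩, mem_sup_left hx⟩, rfl⟩)
    (fun _ ⟨z, hz⟩ => hz ▸ hL.up (z : H).2) (h13.trans (card_dvd_of_surjective _ hs))
  refine ps_of_quot hn ?_
  rw [← map_derivedSeries_of_surj hs 9, h1, Subgroup.map_bot]

theorem boxFi24_of (hA : BoxA) (hB : BoxB) (hAb : BoxAb) (hβ : BoxBeta) (hS : BoxS7) (hR : BoxR1) (h3 : M.C3) :
    BoxFi24 := by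
  intro big G _ _ S H E r hL ⟨e⟩
  obtain ⟨f, hf, hS'⟩ := exists_embF hL.toSetup e
  exact (ps_locF big hA hB hAb hβ hS hR h3 (locF_of hL hf hS')).of_equiv (H.equivMapOfInjective f hf).symm

end Cfsg.Agent.DS.Sp.F24
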