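import Cfsg.Agent.DS.Sp.F24BTab

/-!
# The box `BoxBeta` (helper98): general lemmas
-/

set_option autoImplicit false
set_option linter.style.haveILetI false
set_option linter.unusedSectionVars false

namespace Cfsg.Agent.DS.Sp.F24B

open Subgroup Cfsg.Agent.H511.Wt Cfsg.Agent.DS.Ord
open scoped commutatorElement

/-- the matrices of an action on an elementary abelian group -/
theorem exists_mat {G V : Type*} [Group G] [AddCommGroup V] [Finite V] [DistribMulAction G V] {q j : ℕ} [hq : Fact q.Prime]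
    (hpx : ∀ x : V, q • x = 0) (hc : Nat.card V = q ^ j) :
    ∃ ψ : G →* Matrix (Fin j) (Fin j) (ZMod q), ∀ g, ψ g = 1 ↔ ∀ x : V, g • x = x := by
  classical
  obtain ⟨inst⟩ : Nonempty (Module (ZMod q) V) := ⟨AddCommGroup.zmodModule hpx⟩
  haveI : Module.Finite (ZMod q) V := Module.Finite.of_finite
  have h1 := Module.natCard_eq_pow_finrank (K := ZMod q) (V := V)
  rw [Nat.card_zmod, hc] at h1
  have h2 : Module.finrank (ZMod q) V = j := (Nat.pow_right_injective hq.out.two_le h1).symm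
  let b := Module.finBasisOfFinrankEq (ZMod q) V h2
  let φ : G →* Module.End (ZMod q) V :=
    { toFun := fun g => (DistribSMul.toAddMonoidHom V g).toZModLinearMap q
      map_one' := LinearMap.ext fun x => one_smul G x
      map_mul' := fun g h => LinearMap.ext fun x => mul_smul g h x }
  refine ⟨(LinearMap.toMatrixAlgEquiv b).toMulEquiv.toMonoidHom.comp φ, fun g => ⟨fun h3 x => ?_, fun h3 => ?_⟩⟩
  · have h4 : φ g = 1 := by
      apply (LinearMap.toMatrixAlgEquiv b).injective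
      rw [map_one]
      exact h3
    exact congrArg (fun f : Module.End (ZMod q) V => f x) h4
  · have h4 : φ g = 1 := LinearMap.ext h3
    show LinearMap.toMatrixAlgEquiv b (φ g) = 1
    rw [h4, map_one]

theorem irr_smul {G V : Type*} [Group G] [AddCommGroup V] [Finite V] [DistribMulAction G V] (hirr : Irr G V) {q j : ℕ}
    (hq : q.Prime) (hc : Nat.card V = q ^ j) (x : V) : q • x = 0 := by
  obtain ⟨p, hp, hpx⟩ := hirr.exists_prime
  have hnt := hirr.nt
  obtain ⟨y, hy⟩ := exists_ne (0 : V)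
  haveI : Fact p.Prime := ⟨hp⟩
  have h1 : addOrderOf y = p := addOrderOf_eq_prime (hpx y) hy
  have h2 : p ∣ q ^ j := by
    rw [← hc, ← h1]
    exact addOrderOf_dvd_natCard y
  rw [← (Nat.prime_dvd_prime_iff_eq hp hq).1 (hp.dvd_of_dvd_pow h2)]
  exact hpx x

/-- an elementary abelian `2`-subgroup of `GL(2, 3)` is generated by two elements -/
theorem exists_two {G : Type*} [Group G] (ψ : G →* Matrix (Fin 2) (Fin 2) (ZMod 3)) (R : Subgroup G)
    (h1 : ∀ r ∈ R, ψ r * ψ r = 1) (h2 : ∀ r ∈ R, ∀ s ∈ R, ψ r * ψ s = ψ s * ψ r) :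
    ∃ t ∈ R, ∃ u ∈ R, ∀ r ∈ R, ψ r = 1 ∨ ψ r = ψ t ∨ ψ r = ψ u ∨ ψ r = ψ (t * u) := by
  by_cases h3 : ∃ t ∈ R, ∃ u ∈ R, ψ t ≠ 1 ∧ ψ u ≠ 1 ∧ ψ u ≠ ψ t
  · obtain ⟨t, ht, u, hu, a1, a2, a3⟩ := h3
    refine ⟨t, ht, u, hu, fun r hr => ?_⟩
    rw [map_mul]
    exact mat3 _ (h1 t ht) a1 _ (h1 u hu) (h2 t ht u hu) a2 a3 _ (h1 r hr) (h2 t ht r hr) (h2 u hu r hr)
  by_cases h4 : ∃ t ∈ R, ψ t ≠ 1
  · obtain ⟨t, ht, a1⟩ := h4
    refine ⟨t, ht, t, ht, fun r hr => ?_⟩
    by_cases a2 : ψ r = 1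
    · exact Or.inl a2
    · exact Or.inr (Or.inl (not_not.1 fun a3 => h3 ⟨t, ht, r, hr, a1, a2, a3⟩))
  · exact ⟨1, one_mem _, 1, one_mem _, fun r hr => Or.inl (not_not.1 fun a1 => h4 ⟨r, hr, a1⟩)⟩

/-- an involution acting on an elementary abelian `2`-group -/
theorem card_le_sq {G : Type*} [Group G] [Finite G] {E : Subgroup G} (hc : ∀ x ∈ E, ∀ y ∈ E, x * y = y * x)
    (hp : ∀ x ∈ E, x * x = 1) {t : G} (ht : ∀ x ∈ E, t * x * t⁻¹ ∈ E) (ht2 : ∀ x ∈ E, t * t * x = x * (t * t)) :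
    Nat.card E ≤ Nat.card (E ⊓ centralizer {t} : Subgroup G) ^ 2 := by
  let f : E →* G := MonoidHom.mk' (fun x => (x : G) * (t * x * t⁻¹)) fun x y => by
    show (x : G) * y * (t * (x * y) * t⁻¹) = x * (t * x * t⁻¹) * (y * (t * y * t⁻¹))
    have h1 := hc _ (ht x x.2) y y.2
    calc (x : G) * y * (t * (x * y) * t⁻¹) = x * (y * (t * x * t⁻¹)) * (t * y * t⁻¹) := by group
      _ = x * (t * x * t⁻¹ * y) * (t * y * t⁻¹) := by rw [h1]
      _ = _ := by group
  have h1 : f.range ≤ E ⊓ centralizer {t} := by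
    rintro _ ⟨x, rfl⟩
    refine ⟨mul_mem x.2 (ht x x.2), mem_centralizer_singleton_iff.2 ?_⟩
    show (x : G) * (t * x * t⁻¹) * t = t * (x * (t * x * t⁻¹))
    have h2 := hc _ (ht x x.2) x x.2
    have h3 := ht2 x x.2
    calc (x : G) * (t * x * t⁻¹) * t = t * x * t⁻¹ * x * t := by rw [h2]
      _ = t * x * t⁻¹ * (x * (t * t)) * t⁻¹ := by group
      _ = t * x * t⁻¹ * (t * t * x) * t⁻¹ := by rw [h3]
      _ = _ := by group
  have h2 : f.ker.map E.subtype ≤ E ⊓ centralizer {t} := by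
    rintro _ ⟨x, hx, rfl⟩
    refine ⟨x.2, mem_centralizer_singleton_iff.2 ?_⟩
    have h3 : (x : G) * (t * x * t⁻¹) = 1 := hx
    have h4 : (x : G) * (t * x * t⁻¹) = x * x := by rw [h3, hp x x.2]
    have h5 := mul_left_cancel h4
    show (x : G) * t = t * x
    calc (x : G) * t = t * x * t⁻¹ * t := by rw [h5]
      _ = _ := by group
  have h3 := card_le_of_le h1
  have h4 := card_le_of_le h2
  rw [card_map_of_injective E.subtype_injective] at h4
  rw [← f.ker.card_mul_index, index_ker, pow_two]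
  exact Nat.mul_le_mul h4 h3

theorem mem_of_two {G : Type*} [Group G] {C T : Subgroup G} [C.Normal] {j n : ℕ} (h : C.relIndex T = 3 ^ j) {x : G}
    (hx : x ∈ T) (h2 : x ^ 2 ^ n = 1) : x ∈ C := by
  have h1 := C.pow_relIndex_mem hx
  rw [h] at h1
  have h3 : Nat.Coprime (3 ^ j) (2 ^ n) := Nat.Coprime.pow j n (by norm_num)
  have h4 : x ^ (((3 ^ j).gcd (2 ^ n) : ℕ) : ℤ) ∈ C := by
    rw [Nat.gcd_eq_gcd_ab, zpow_add, zpow_mul, zpow_mul, zpow_natCast, zpow_natCast, h2, one_zpow, mul_one]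
    exact zpow_mem h1 _
  rwa [h3, Nat.cast_one, zpow_one] at h4

theorem two_el {G : Type*} [Group G] {R : Subgroup G} (hR : IsPGroup 2 R) {x : G} (hx : x ∈ R) :
    ∃ n : ℕ, x ^ 2 ^ n = 1 := by
  obtain ⟨n, hn⟩ := hR ⟨x, hx⟩
  exact ⟨n, congrArg Subtype.val hn⟩

/-- the recursion for a given self-centralizing normal `q`-subgroup -/
theorem con_rule {X : Type} [Group X] [Finite X] [Group.IsSolvable X] {q : ℕ} [Fact q.Prime] {P : Subgroup X} [P.Normal]
    (hPq : IsPGroup q P) (hmax : ∀ L : Subgroup X, L.Normal → IsPGroup q L → L ≤ P)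
    (hcen : centralizer (P : Set X) ≤ P) {a N D : ℕ} (ha : Nat.card P = q ^ a) (hN : Nat.card X ∣ N) (hPb : P ≠ ⊥)
    (h : ∀ k d, k ≤ a → 2 ^ d + 2 * d ≤ a + 2 → 2 ^ d + d + k ≤ a + 2 →
      d + 1 ≤ D ∧ (ChB X q k (N / q ^ a) (D - (d + 1)) ∨
        (2 ≤ d ∧ ChB X q (min (a + 2 - (2 ^ d + 2 * d)) k) (N / q ^ a) (D - (d + 1)) ∧
          ChB X q (a + 5 - (k + 2 ^ d + d)) (N / q ^ a) (D - (d + 1))))) :
    derivedSeries X D = ⊥ := by
  classical
  rw [← dser_top]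
  obtain ⟨k, hk⟩ := relIndex_pow (C := phi P) hPq
  have hex := exists_dser_eq_bot P
  obtain ⟨d, hd⟩ : ∃ d, Nat.find hex = d + 1 := by
    refine Nat.exists_eq_succ_of_ne_zero fun h0 => hPb ?_
    have := Nat.find_spec hex
    rwa [h0] at this
  have hd1 : dser P d ≠ ⊥ := Nat.find_min hex (by omega)
  have hd2 : dser P (d + 1) = ⊥ := hd ▸ Nat.find_spec hex
  obtain ⟨f1, f2, f3⟩ := feas hPq ha hk hd1 hd2
  obtain ⟨g1, g2⟩ := h k d f1 f2 f3
  have h1 := dser_le_of_constrained hPq hmax hcen ha hk hd1 hd2 hN (e := D - (d + 1)) g2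
  rw [eq_bot_iff, ← Nat.sub_add_cancel g1]
  exact dser_add_le h1 hd2.le

/-- the case of a small normal `2`-subgroup -/
theorem small_case {X : Type} [Group X] [Finite X] [Group.IsSolvable X] {P : Subgroup X} [P.Normal]
    (hPq : IsPGroup 2 P) (hmax : ∀ L : Subgroup X, L.Normal → IsPGroup 2 L → L ≤ P)
    (hcen : centralizer (P : Set X) ≤ P) {a : ℕ} (ha : Nat.card P = 2 ^ a) (ha' : a < 18) (hN : Nat.card X ∣ NF)
    (hPb : P ≠ ⊥) : derivedSeries X 9 = ⊥ := by
  refine con_rule hPq hmax hcen ha hN hPb fun k d f1 f2 f3 => ?_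
  have hd : d < 5 := by
    by_contra hlt
    have : 2 ^ 5 ≤ 2 ^ d := Nat.pow_le_pow_right (by norm_num) (by omega)
    omega
  have h1 := allLt_spec (allLt_spec (allLt_spec chkSmall ha') (show k < 18 by omega)) hd
  rw [smallChk, Bool.or_eq_true, Bool.or_eq_true, Bool.or_eq_true, Bool.or_eq_true, Nat.blt_eq, Nat.blt_eq,
    Nat.blt_eq, Bool.and_eq_true, Bool.and_eq_true, Nat.ble_eq] at h1
  refine ⟨by omega, ?_⟩
  rcases h1 with (h1 | h1) | h1
  · omega
  · exact Or.inl (tabA_valid.chB X Nat.prime_two h1)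
  · exact Or.inr ⟨h1.1.1, tabA_valid.chB X Nat.prime_two h1.1.2, tabA_valid.chB X Nat.prime_two h1.2⟩

/-- from the chief factors of order nine to those of order at most `2 ^ 9` -/
theorem claim2 {X : Type} [Group X] [Finite X] [Group.IsSolvable X] (h3 : ∀ N, ChB X 3 2 N 3) : ChB X 2 9 NQ 5 := by
  intro C T _ _ h1 h2 h4 j hj h5 h6
  obtain ⟨V, j1, j2, j3, hirr, hc, hV⟩ := exists_mod C T h1 h2 h4
  have hc' : Nat.card V = 2 ^ j := hc.trans h5
  have hN : Nat.card (Im X V) ∣ NQ := by rwa [card_im hV]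
  refine (DL.iff_le hV).1 ?_
  by_cases hj5 : j ≤ 5
  · exact tabA_valid.dl X V hirr Nat.prime_two hj5 hc' hN chk5
  have hsol : Group.IsSolvable (Im X V) := range_solvable
  have hg : Nat.card (Im X V) ∣ Nat.gcd NQ (glN 2 j) := Nat.dvd_gcd hN (card_im_dvd_gl hirr Nat.prime_two hc')
  have h7 : j = 6 ∨ j = 7 ∨ j = 8 ∨ j = 9 := by omega
  refine DL.of_range ?_
  rcases h7 with rfl | rfl | rfl | rfl
  · have h8 := sol_of_chk (Im X V) (ok := ok2) (fun q k N e hq hok => by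
      rw [ok2, Bool.or_eq_true, Bool.and_eq_true, Bool.and_eq_true, Nat.beq_eq, Nat.ble_eq, Nat.ble_eq] at hok
      rcases hok with hok | ⟨⟨rfl, a1⟩, a2⟩
      · exact tabA_valid.chB _ hq hok
      · exact ((h3 N).of_surj toIm_surjective).mono a1 dvd_rfl a2) (p := 2) (by
      intro M hM hMp
      rw [eq_bot_iff]
      intro g hg
      exact range_faithful g (irr_pcore hirr.range Nat.prime_two hc' M hMp g hg)) hg chk6
    intro g hg v
    rw [dser_top, h8, mem_bot] at hg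
    rw [hg, one_smul]
  · exact clif_of_chk (Im X V) V (tabA_valid _) hirr.range range_faithful Nat.prime_two hc' hg (by norm_num) chk7
  · exact clif_of_chk (Im X V) V (tabA_valid _) hirr.range range_faithful Nat.prime_two hc' hg (by norm_num) chk8
  · exact clif_of_chk (Im X V) V (tabA_valid _) hirr.range range_faithful Nat.prime_two hc' hg (by norm_num) chk9

/-- the case of a big normal `2`-subgroup -/
theorem big_case {X : Type} [Group X] [Finite X] [Group.IsSolvable X] (h3 : ∀ N, ChB X 3 2 N 3)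
    (hN : Nat.card X ∣ NF) : derivedSeries X 9 = ⊥ := by
  refine sol_of_chk X (ok := ok1) (fun q k N e hq hok => ?_) (p := 1) (fun M _ hM => normal_one_bot M hM) hN chkBig
  rw [ok1, Bool.or_eq_true, Bool.and_eq_true, Bool.and_eq_true, Bool.and_eq_true, Nat.beq_eq, Nat.ble_eq, Nat.ble_eq,
    dv_iff] at hok
  rcases hok with hok | ⟨⟨⟨rfl, a1⟩, a2⟩, a3⟩
  · exact tabA_valid.chB _ hq hok
  · exact (claim2 h3).mono a1 a2 a3

end Cfsg.Agent.DS.Sp.F24B
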