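import Cfsg.Agent.DS.Sp.F24B1

/-!
# The box `BoxBeta` (helper98): the chief factors of order nine
-/

set_option autoImplicit false
set_option linter.style.haveILetI false
set_option linter.unusedSectionVars false

namespace Cfsg.Agent.DS.Sp.F24B

open Subgroup Cfsg.Agent.H511.Wt Cfsg.Agent.DS.Ord
open scoped commutatorElement

/-- the configuration inside the solvable group -/
structure Cfg {X : Type} [Group X] (P E R : Subgroup X) (z : X) : Prop where
  P2 : IsPGroup 2 P
  Ecomm : ∀ x ∈ E, ∀ y ∈ E, x * y = y * x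
  Epow : ∀ x ∈ E, x * x = 1
  Emin : ∀ N : Subgroup X, N.Normal → N ≤ E → N = ⊥ ∨ N = E
  EP : ∀ e ∈ E, ∀ y ∈ P, y * e = e * y
  zE : z ∈ E
  zP : z ∈ P
  z1 : z ≠ 1
  R2 : IsPGroup 2 R
  sq : ∀ r ∈ R, r * r = 1 ∨ r * r = z
  com : ∀ r ∈ R, ∀ s ∈ R, r * s = s * r ∨ r * s = z * (s * r)
  norm : ∀ g : X, g * z = z * g → ∀ r ∈ R, g * r * g⁻¹ ∈ R
  cent : ∀ g : X, (∀ r ∈ R, g * r = r * g) → g = 1 ∨ g = z
  RP : ¬ R ≤ P

variable {X : Type} [Group X] [Finite X] {P E R : Subgroup X} {z : X} [hPn : P.Normal] [hEn : E.Normal]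

/-- `E` is small if `R` is generated by two elements modulo the centralizer of `E` -/
theorem Cfg.card_le (h : Cfg P E R z) {t u : X} (ht : t ∈ R) (hu : u ∈ R)
    (hg : ∀ r ∈ R, r ∈ P ∨ t⁻¹ * r ∈ P ∨ u⁻¹ * r ∈ P ∨ (t * u)⁻¹ * r ∈ P) : Nat.card E ≤ 16 := by
  have hsq : ∀ r ∈ R, ∀ x ∈ E, r * r * x = x * (r * r) := by
    intro r hr x hx
    rcases h.sq r hr with e | e
    · rw [e, one_mul, mul_one]
    · rw [e, h.Ecomm z h.zE x hx]
  have h1 := card_le_sq h.Ecomm h.Epow (t := t) (fun x hx => hEn.conj_mem x hx t) (hsq t ht)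
  have h2 := card_le_sq (E := E ⊓ centralizer {t}) (fun x hx y hy => h.Ecomm x hx.1 y hy.1)
    (fun x hx => h.Epow x hx.1) (t := u) (fun x hx => ⟨hEn.conj_mem x hx.1 u, mem_centralizer_singleton_iff.2 (by
      have a1 : x * t = t * x := mem_centralizer_singleton_iff.1 hx.2
      have a2 := h.Ecomm z h.zE _ (hEn.conj_mem x hx.1 u)
      rcases h.com t ht u hu with e | e
      · calc u * x * u⁻¹ * t = u * x * u⁻¹ * (t * u) * u⁻¹ := by group
          _ = u * (x * t) * u⁻¹ := by rw [e]; group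
          _ = u * t * x * u⁻¹ := by rw [a1]; group
          _ = _ := by rw [← e]; group
      · calc u * x * u⁻¹ * t = u * x * u⁻¹ * (t * u) * u⁻¹ := by group
          _ = u * x * u⁻¹ * z * (u * t) * u⁻¹ := by rw [e]; group
          _ = z * u * (x * t) * u⁻¹ := by rw [← a2]; group
          _ = z * (u * t) * x * u⁻¹ := by rw [a1]; group
          _ = _ := by rw [← e]; group)⟩) (fun x hx => hsq u hu x hx.1)
  have h3 : (E ⊓ centralizer {t}) ⊓ centralizer {u} ≤ zpowers z := by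
    intro x hx
    have a1 : x * t = t * x := mem_centralizer_singleton_iff.1 hx.1.2
    have a2 : x * u = u * x := mem_centralizer_singleton_iff.1 hx.2
    have a3 : ∀ w r : X, x * w = w * x → w⁻¹ * r ∈ P → x * r = r * x := by
      intro w r b1 b2
      have b3 := h.EP x hx.1.1 _ b2
      calc x * r = x * w * (w⁻¹ * r) := by group
        _ = w * (x * (w⁻¹ * r)) := by rw [b1]; group
        _ = _ := by rw [← b3]; group
    rcases h.cent x (fun r hr => by
      rcases hg r hr with e | e | e | e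
      · exact (h.EP x hx.1.1 r e).symm
      · exact a3 t r a1 e
      · exact a3 u r a2 e
      · exact a3 _ r (by rw [← mul_assoc, a1, mul_assoc, a2, mul_assoc]) e) with e | e
    · rw [e]
      exact one_mem _
    · rw [e]
      exact mem_zpowers z
  have h4 := card_le_of_le h3
  rw [Nat.card_zpowers] at h4
  have h5 : orderOf z ≤ 2 := orderOf_le_of_pow_eq_one (by norm_num) (by rw [pow_two, h.Epow z h.zE])
  have h6 : Nat.card (E ⊓ centralizer {t} : Subgroup X) ≤ 4 :=
    h2.trans (Nat.pow_le_pow_left (h4.trans h5) 2)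
  exact h1.trans (Nat.pow_le_pow_left h6 2)

theorem Cfg.not_dvd (h : Cfg P E R z) (hE : Nat.card E ≤ 16) : ¬ 27 ∣ (centralizer (E : Set X)).index := by
  haveI : Fact (Nat.Prime 2) := ⟨Nat.prime_two⟩
  have h1 : IsPGroup 2 E := fun x => ⟨1, Subtype.ext (by
    show (x : X) ^ 2 ^ 1 = 1
    rw [pow_one, pow_two, h.Epow x x.2])⟩
  obtain ⟨i, hi⟩ := IsPGroup.iff_card.1 h1
  have h2 : i ≤ 4 := by
    rw [hi] at hE
    exact (Nat.pow_le_pow_iff_right (by norm_num : 1 < 2)).1 hE
  obtain ⟨V, j1, j2, j3, hirr, hc, hV⟩ := exists_mod0 E (fun h0 => h.z1 (by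
    have := h.zE
    rwa [h0, mem_bot] at this)) h.Emin h.Ecomm
  have h3 := card_im_dvd_gl hirr Nat.prime_two (hc.trans hi)
  rw [card_im hV] at h3
  exact fun h4 => gl2_not i h2 (h4.trans h3)

/-- **The chief factors of order at most nine.** -/
theorem Cfg.claim3 [Group.IsSolvable X] (h : Cfg P E R z) (h23 : ¬ 2 ^ 23 ∣ Nat.card X) (h18 : 2 ^ 18 ∣ Nat.card P) (N : ℕ) :
    ChB X 3 2 N 3 := by
  haveI : Fact (Nat.Prime 2) := ⟨Nat.prime_two⟩
  haveI : Fact (Nat.Prime 3) := ⟨Nat.prime_three⟩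
  intro C T hCn hTn h1 h2 h4 j hj h5 _
  by_contra hne
  obtain ⟨V, j1, j2, j3, hirr, hc, hV⟩ := exists_mod C T h1 h2 h4
  have hc' : Nat.card V = 3 ^ j := hc.trans h5
  have hK := card_im_dvd_gl hirr Nat.prime_three hc'
  rw [card_im hV] at hK
  have n24 : ¬ (cenMod C T).index ∣ 24 := fun a => hne (tabA_valid.chB X Nat.prime_three chk24 C T h1 h2 h4 j hj h5 a)
  have n16 : ¬ (cenMod C T).index ∣ 16 := fun a => hne (tabA_valid.chB X Nat.prime_three chk16 C T h1 h2 h4 j hj h5 a)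
  obtain rfl : j = 2 := by
    by_contra a
    exact n24 (hK.trans (gl3_lt j (by omega)))
  have h48 : (cenMod C T).index = 48 := by
    have a := hK.trans (gl3_dvd 2 le_rfl)
    rcases dvd48 _ (Nat.le_of_dvd (by norm_num) a) a with b | b | b
    exacts [absurd b n24, absurd b n16, b]
  have hTc : ∀ x : X, ∀ y ∈ T, ⁅x, y⁆ ∈ T := fun x y hy => by
    rw [commutatorElement_def]
    exact mul_mem (hTn.conj_mem y hy x) (inv_mem hy)
  have hcl : ∀ (L : Subgroup X), L.Normal → ∀ x ∈ L, ∀ y : X, ⁅x, y⁆ ∈ L := fun L hL x hx y => by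
    have e : ⁅x, y⁆ = x * (y * x⁻¹ * y⁻¹) := by rw [commutatorElement_def]; group
    rw [e]
    exact mul_mem hx (hL.conj_mem _ (inv_mem hx) y)
  have hPK : P ≤ cenMod C T := fun x hx => mem_cenMod.2 fun y hy => by
    obtain ⟨n, hn⟩ := two_el h.P2 (hcl P hPn x hx y)
    exact mem_of_two h5 (hTc x y hy) hn
  have hRK : R ⊓ cenMod C T ≤ P := by
    have a1 : IsPGroup 2 ((R ⊓ cenMod C T) ⊔ P : Subgroup X) :=
      (h.R2.to_le inf_le_left).to_sup_of_normal_right h.P2
    obtain ⟨b, hb⟩ := IsPGroup.iff_card.1 a1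
    have a2 : 2 ^ b ∣ Nat.card (cenMod C T) := by
      rw [← hb]
      exact card_dvd_of_le (sup_le inf_le_right hPK)
    have a3 : b ≤ 18 := by
      by_contra a4
      apply h23
      rw [← (cenMod C T).card_mul_index, h48, show 2 ^ 23 = 2 ^ 19 * 2 ^ 4 by norm_num]
      exact Nat.mul_dvd_mul ((pow_dvd_pow 2 (show 19 ≤ b by omega)).trans a2) (show 2 ^ 4 ∣ 48 by norm_num)
    have a4 : P = (R ⊓ cenMod C T) ⊔ P := eq_of_le_of_card_ge le_sup_right (by
      rw [hb]
      exact (Nat.pow_le_pow_right (by norm_num) a3).trans (Nat.le_of_dvd Nat.card_pos h18))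
    exact le_sup_left.trans a4.ge
  have hCz : centralizer (E : Set X) ⊓ T ≤ C := by
    by_contra a
    have a1 := h2 ((centralizer (E : Set X) ⊓ T) ⊔ C) inferInstance
      (lt_of_le_of_ne le_sup_right fun b => a (le_sup_left.trans b.ge)) (sup_le inf_le_right h1.le)
    refine h.RP (le_trans (le_inf le_rfl ?_) hRK)
    rw [cenMod_comm]
    refine a1.ge.trans (sup_le ?_ ?_)
    · intro c hc
      refine mem_cenMod.2 fun r hr => ?_
      have b1 : ⁅c, r⁆ ∈ R := by
        rw [commutatorElement_def]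
        exact mul_mem (h.norm c (mem_centralizer_iff.1 hc.1 z h.zE).symm r hr) (inv_mem hr)
      obtain ⟨n, hn⟩ := two_el h.R2 b1
      exact mem_of_two h5 (hcl T hTn c hc.2 r) hn
    · intro c hc
      exact mem_cenMod.2 fun r _ => hcl C hCn c hc r
  have hCK : centralizer (E : Set X) ≤ cenMod C T := fun c hc => mem_cenMod.2 fun y hy =>
    hCz ⟨hcl _ inferInstance c hc y, hTc c y hy⟩
  have h27 : 27 ∣ (centralizer (E : Set X)).index := by
    rw [← relIndex_mul_index hCK, h48]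
    have a1 : 9 ∣ (centralizer (E : Set X)).relIndex T := by
      rw [← inf_relIndex_right]
      exact dvd_trans (by rw [h5]; norm_num) (relIndex_dvd_of_le_left T hCz)
    have a2 : (centralizer (E : Set X)).relIndex T ∣ (centralizer (E : Set X)).relIndex (cenMod C T) := by
      rw [← relIndex_sup_right T, ← relIndex_mul_relIndex _ (T ⊔ centralizer (E : Set X)) (cenMod C T) le_sup_right
        (sup_le (le_cenMod_iff.2 h4) hCK)]
      exact dvd_mul_right _ _
    exact Nat.mul_dvd_mul (a1.trans a2) (show 3 ∣ 48 by norm_num)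
  obtain ⟨ψ, hψ⟩ := exists_mat (G := X) (irr_smul hirr Nat.prime_three hc') hc'
  have hz : ψ z = 1 := (hψ z).2 ((hV z).2 (hPK h.zP))
  obtain ⟨t, ht, u, hu, hg⟩ := exists_two ψ R (fun r hr => by
    rw [← map_mul]
    rcases h.sq r hr with e | e
    · rw [e, map_one]
    · rw [e, hz]) (fun r hr s hs => by
    rw [← map_mul, ← map_mul]
    rcases h.com r hr s hs with e | e
    · rw [e]
    · rw [e, map_mul, hz, one_mul])
  have key : ∀ w ∈ R, ∀ r ∈ R, ψ r = ψ w → w⁻¹ * r ∈ P := fun w hw r hr e =>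
    hRK ⟨R.mul_mem (R.inv_mem hw) hr, (hV _).1 ((hψ _).1 (by rw [map_mul, e, ← map_mul, inv_mul_cancel, map_one]))⟩
  refine h.not_dvd (h.card_le ht hu fun r hr => ?_) h27
  rcases hg r hr with e | e | e | e
  · exact Or.inl (hRK ⟨hr, (hV _).1 ((hψ _).1 e)⟩)
  · exact Or.inr (Or.inl (key t ht r hr e))
  · exact Or.inr (Or.inr (Or.inl (key u hu r hr e)))
  · exact Or.inr (Or.inr (Or.inr (key _ (mul_mem ht hu) r hr e)))

/-- **The derived length.** -/
theorem Cfg.main [Group.IsSolvable X] (h : Cfg P E R z) (hmax : ∀ L : Subgroup X, L.Normal → IsPGroup 2 L → L ≤ P)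
    (hcen : centralizer (P : Set X) ≤ P) (hN : Nat.card X ∣ NF) : derivedSeries X 9 = ⊥ := by
  haveI : Fact (Nat.Prime 2) := ⟨Nat.prime_two⟩
  obtain ⟨a, ha⟩ := IsPGroup.iff_card.1 h.P2
  by_cases h1 : a < 18
  · exact small_case h.P2 hmax hcen ha h1 hN fun h0 => h.z1 (by
      have := h.zP
      rwa [h0, mem_bot] at this)
  · refine big_case (h.claim3 (fun h2 => ?_) (by rw [ha]; exact pow_dvd_pow 2 (by omega))) hN
    exact absurd (h2.trans hN) (by decide +kernel)

end Cfsg.Agent.DS.Sp.F24B
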