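import Cfsg.Agent.DS.Ord.TabA

/-!
# The box `BoxBeta` (helper98): the numerical checks
-/

set_option autoImplicit false

namespace Cfsg.Agent.DS.Sp.F24B

open Cfsg.Agent.DS.Ord

/-- the bound for the order -/
def NF : ℕ := 2 ^ 22 * 3 ^ 12 * 5 ^ 2 * 7 ^ 3 * 11 * 13 * 17 * 23 * 29

/-- the bound for the automizers -/
def NQ : ℕ := 2 ^ 4 * 3 ^ 12 * 5 ^ 2 * 7 ^ 3 * 11 * 13 * 17 * 23 * 29

/-- the table together with the claim on the chief factors of order at most nine -/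
def ok2 (q k N e : ℕ) : Bool := okT tabAL q k N e || (Nat.beq q 3 && Nat.ble k 2 && Nat.ble 3 e)

/-- the table together with the claim on the chief factors of order at most `2 ^ 9` -/
def ok1 (q k N e : ℕ) : Bool := okT tabAL q k N e || (Nat.beq q 2 && Nat.ble k 9 && dv N NQ && Nat.ble 5 e)

theorem chk24 : okT tabAL 3 2 24 3 = true := by decide +kernel

theorem chk16 : okT tabAL 3 2 16 3 = true := by decide +kernel

theorem chk5 : okT tabAL 2 5 NQ 5 = true := by decide +kernel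

theorem chk6 : solChk ok2 2 (Nat.gcd NQ (glN 2 6)) 5 = true := by decide +kernel

theorem chk7 : clifChk tabAL 2 7 (Nat.gcd NQ (glN 2 7)) 5 = true := by decide +kernel

theorem chk8 : clifChk tabAL 2 8 (Nat.gcd NQ (glN 2 8)) 5 = true := by decide +kernel

theorem chk9 : clifChk tabAL 2 9 (Nat.gcd NQ (glN 2 9)) 5 = true := by decide +kernel

theorem chkBig : solChk ok1 1 NF 9 = true := by decide +kernel

/-- the check for a small normal `2`-subgroup -/
def smallChk (a k d : ℕ) : Bool :=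
  Nat.blt a k || Nat.blt (a + 2) (2 ^ d + 2 * d) || Nat.blt (a + 2) (2 ^ d + d + k) ||
    okT tabAL 2 k (NF / 2 ^ a) (9 - (d + 1)) ||
    (Nat.ble 2 d && okT tabAL 2 (min (a + 2 - (2 ^ d + 2 * d)) k) (NF / 2 ^ a) (9 - (d + 1)) &&
      okT tabAL 2 (a + 5 - (k + 2 ^ d + d)) (NF / 2 ^ a) (9 - (d + 1)))

theorem chkSmall : allLt (fun a => allLt (fun k => allLt (fun d => smallChk a k d) 5) 18) 18 = true := by
  decide +kernel

theorem gl3_dvd : ∀ j ≤ 2, glN 3 j ∣ 48 := by decide +kernel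

theorem gl3_lt : ∀ j < 2, glN 3 j ∣ 24 := by decide +kernel

theorem gl2_not : ∀ j ≤ 4, ¬ 27 ∣ glN 2 j := by decide +kernel

theorem dvd48 : ∀ n ≤ 48, n ∣ 48 → n ∣ 24 ∨ n ∣ 16 ∨ n = 48 := by decide +kernel

set_option synthInstance.maxSize 2000 in
/-- commuting involutions in `GL(2, 3)` -/
theorem mat3 : ∀ x : Matrix (Fin 2) (Fin 2) (ZMod 3), x * x = 1 → x ≠ 1 → ∀ y : Matrix (Fin 2) (Fin 2) (ZMod 3),
    y * y = 1 → x * y = y * x → y ≠ 1 → y ≠ x → ∀ w : Matrix (Fin 2) (Fin 2) (ZMod 3), w * w = 1 → x * w = w * x →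
      y * w = w * y → w = 1 ∨ w = x ∨ w = y ∨ w = x * y := by decide +kernel

end Cfsg.Agent.DS.Sp.F24B
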