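import Mathlib
import Cfsg.Agent.DS.Sp.D8Defs

/-!
# S5881, S5882, the box `BoxFi24`: indices of `3`-subgroups in subnormal series (helper19)
-/

set_option autoImplicit false
set_option maxHeartbeats 400000

namespace Cfsg.Agent.DS.Sp.F24S

open Subgroup

variable {G : Type*} [Group G]

theorem normal_of_le {N C : Subgroup G} (hN : N ≤ normalizer (C : Set G)) : (C.subgroupOf N).Normal :=
  ⟨fun _ ha g => (mem_normalizer_iff.1 (hN g.2) _).1 ha⟩

theorem le_normalizer_of [Finite G] {N C : Subgroup G} (h : ∀ g ∈ N, ∀ c ∈ C, g * c * g⁻¹ ∈ C) :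
    N ≤ normalizer (C : Set G) := fun g hg => mem_normalizer_fintype fun c hc => h g hg c hc

theorem ri_dvd {N C U : Subgroup G} (hU : U ≤ N) (hN : N ≤ normalizer (C : Set G)) :
    C.relIndex U ∣ C.relIndex N := by
  have := normal_of_le hN
  rw [← relIndex_subgroupOf hU]
  exact relIndex_dvd_index_of_normal _ _

theorem ri_sup {C K : Subgroup G} (hK : K ≤ normalizer (C : Set G)) : C.relIndex (K ⊔ C) = C.relIndex K := by
  have hN : K ⊔ C ≤ normalizer (C : Set G) := sup_le hK le_normalizer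
  have := normal_of_le hN
  rw [← relIndex_subgroupOf (le_sup_left : K ≤ K ⊔ C), ← relIndex_sup_right _ (C.subgroupOf (K ⊔ C)),
    ← subgroupOf_sup le_sup_left le_sup_right, subgroupOf_self, relIndex_top_right]
  rfl

theorem card_eq_mul {C N : Subgroup G} (h : C ≤ N) : Nat.card N = C.relIndex N * Nat.card C := by
  rw [← Nat.card_congr (subgroupOfEquivOfLe h).toEquiv, mul_comm]
  exact (card_mul_index _).symm

theorem card_sup_dvd {C K : Subgroup G} (hK : K ≤ normalizer (C : Set G)) :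
    Nat.card (K ⊔ C : Subgroup G) ∣ Nat.card K * Nat.card C := by
  rw [card_eq_mul (le_sup_right : C ≤ K ⊔ C), ri_sup hK]
  exact Nat.mul_dvd_mul_right (relIndex_dvd_card _ _) _

theorem ri_le [Finite G] {C U : Subgroup G} (hU : IsPGroup 3 U) {m k : ℕ} (hd : C.relIndex U ∣ m)
    (hm : ¬ 3 ^ (k + 1) ∣ m) : C.relIndex U ≤ 3 ^ k := by
  have : Fact (Nat.Prime 3) := ⟨Nat.prime_three⟩
  obtain ⟨j, hj⟩ := hU.index (C.subgroupOf U)
  have hj' : C.relIndex U = 3 ^ j := hj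
  rw [hj'] at hd ⊢
  refine Nat.pow_le_pow_right (by norm_num) ?_
  by_contra hlt
  exact hm ((pow_dvd_pow 3 (by omega)).trans hd)

/-- `C` normalizes a subgroup of order at most `3 ^ 7` with a quotient of small `3`-part -/
def Good (C : Subgroup G) : Prop :=
  ∃ A N : Subgroup G, C ≤ N ∧ N ≤ normalizer (A : Set G) ∧ Nat.card A ≤ 3 ^ 7 ∧ ¬ 3 ^ 8 ∣ A.relIndex N

theorem Good.mono {C C' : Subgroup G} (h : Good C) (hC : C' ≤ C) : Good C' := by
  obtain ⟨A, N, h1, h2⟩ := h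
  exact ⟨A, N, hC.trans h1, h2⟩

theorem Good.conj [Finite G] {C C' : Subgroup G} (h : Good C) (g : G) (hC : ∀ u ∈ C', g * u * g⁻¹ ∈ C) :
    Good C' := by
  obtain ⟨A, N, h1, h2, h3, h4⟩ := h
  refine ⟨A.comap (MulAut.conj g).toMonoidHom, N.comap (MulAut.conj g).toMonoidHom, fun u hu => h1 (hC u hu),
    le_normalizer_of ?_, ?_, ?_⟩
  · intro n hn c hc
    have h5 := (mem_normalizer_iff.1 (h2 hn) _).1 hc
    rw [← map_inv, ← map_mul, ← map_mul] at h5
    exact h5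
  · refine le_trans (le_of_eq ?_) h3
    have e := map_equiv_eq_comap_symm' (MulAut.conj g).symm A
    exact (congrArg (fun X : Subgroup G => Nat.card X) e).symm.trans
      (card_map_of_injective (MulAut.conj g).symm.injective)
  · rwa [relIndex_comap, map_comap_eq_self_of_surjective (MulAut.conj g).surjective]

theorem s7_of_good [Finite G] {V : Subgroup G} (h : Good (centralizer (V : Set G))) : S7 G V := by
  obtain ⟨A, N, h1, h2, h3, h4⟩ := h
  refine Or.inr ⟨A, A, le_rfl, h1.trans h2, h1.trans h2, fun U hU hp => ⟨?_, ?_, ?_⟩⟩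
  · exact ri_le hp (ri_dvd (hU.trans h1) h2) h4
  · rw [relIndex_eq_one.2 inf_le_right]
    norm_num
  · exact (card_le_of_le inf_le_right).trans h3

theorem s7_of_two [Finite G] {V Q₁ Q₂ N₁ N₂ : Subgroup G} (h₁ : centralizer (V : Set G) ≤ N₁)
    (h₂ : centralizer (V : Set G) ≤ N₂) (k₁ : N₁ ≤ normalizer (Q₁ : Set G)) (k₂ : N₂ ≤ normalizer (Q₂ : Set G))
    (l₁ : ¬ 3 ^ 8 ∣ Q₁.relIndex N₁) (l₂ : ¬ 3 ^ 8 ∣ Q₂.relIndex N₂)
    (hc : Nat.card (Q₁ ⊓ Q₂ : Subgroup G) ≤ 3 ^ 7) : S7 G V := by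
  refine Or.inr ⟨Q₁, Q₁ ⊓ Q₂, inf_le_left, h₁.trans k₁, le_normalizer_of fun g hg c hc => ?_,
    fun U hU hp => ⟨?_, ?_, ?_⟩⟩
  · exact ⟨(mem_normalizer_iff.1 (k₁ (h₁ hg)) _).1 hc.1, (mem_normalizer_iff.1 (k₂ (h₂ hg)) _).1 hc.2⟩
  · exact ri_le hp (ri_dvd (hU.trans h₁) k₁) l₁
  · have e : (Q₁ ⊓ Q₂).relIndex (U ⊓ Q₁) = Q₂.relIndex (U ⊓ Q₁) := by
      rw [← inf_relIndex_right (Q₁ ⊓ Q₂), ← inf_relIndex_right Q₂]
      congr 1
      ext x
      simp only [mem_inf]
      tauto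
    rw [e]
    exact ri_le (hp.to_le inf_le_left) (ri_dvd ((inf_le_left.trans hU).trans h₂) k₂) l₂
  · exact (card_le_of_le inf_le_right).trans hc

/-- an element centralizing a subgroup normalizes it -/
theorem zp_le_norm {x : G} {A : Subgroup G} (h : ∀ a ∈ A, Commute x a) : zpowers x ≤ normalizer (A : Set G) := by
  refine (zpowers_le.2 ?_).trans (centralizer_le_normalizer (A : Set G))
  exact mem_centralizer_iff.2 fun a ha => (h a ha).symm.eq

/-- a product `⟨x⟩ ⟨y⟩ K` -/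
theorem good_of_prod [Finite G] {C K E : Subgroup G} {x y : G} (hx : x ^ 3 = 1) (hy : y ^ 3 = 1)
    (hxy : Commute x y) (hxK : ∀ k ∈ K, Commute x k) (hyK : ∀ k ∈ K, Commute y k) (hE : E ≤ K)
    (hK : K ≤ normalizer (E : Set G)) (hc : Nat.card E ≤ 3 ^ 5) (hi : ¬ 3 ^ 8 ∣ E.relIndex K)
    (hC : C ≤ K ⊔ (zpowers x ⊔ zpowers y)) : Good C := by
  have c3 : ∀ z : G, z ^ 3 = 1 → Nat.card (zpowers z) ≤ 3 := fun z hz => by
    rw [Nat.card_zpowers]
    exact Nat.le_of_dvd (by norm_num) (orderOf_dvd_of_pow_eq_one hz)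
  have n1 : zpowers y ≤ normalizer (E : Set G) := zp_le_norm fun a ha => hyK a (hE ha)
  have cx : ∀ a ∈ zpowers y ⊔ E, Commute x a := by
    have : zpowers y ⊔ E ≤ centralizer ({x} : Set G) :=
      sup_le (zpowers_le.2 (mem_centralizer_singleton_iff.2 hxy.symm.eq))
        fun a ha => mem_centralizer_singleton_iff.2 (hxK a (hE ha)).symm.eq
    exact fun a ha => (show Commute a x from mem_centralizer_singleton_iff.1 (this ha)).symm
  have n2 : zpowers x ≤ normalizer ((zpowers y ⊔ E : Subgroup G) : Set G) := zp_le_norm cx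
  have nz : ∀ z : G, (∀ k ∈ K, Commute z k) → K ≤ normalizer ((zpowers z : Subgroup G) : Set G) := by
    intro z hz k hk
    refine centralizer_le_normalizer _ (mem_centralizer_iff.2 ?_)
    rintro _ ⟨n, rfl⟩
    exact ((hz k hk).zpow_left n).eq
  have nK : K ≤ normalizer ((zpowers x ⊔ (zpowers y ⊔ E) : Subgroup G) : Set G) :=
    (le_inf (nz x hxK) ((le_inf (nz y hyK) hK).trans (normalizer_inf_normalizer_le_normalizer_sup _ _))).trans
      (normalizer_inf_normalizer_le_normalizer_sup _ _)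
  refine ⟨zpowers x ⊔ (zpowers y ⊔ E), K ⊔ (zpowers x ⊔ (zpowers y ⊔ E)),
    hC.trans (sup_le_sup_left (sup_le_sup_left le_sup_left _) _), sup_le nK le_normalizer, ?_, ?_⟩
  · have a1 := Nat.le_of_dvd (Nat.mul_pos Nat.card_pos Nat.card_pos) (card_sup_dvd n1)
    have a2 := Nat.le_of_dvd (Nat.mul_pos Nat.card_pos Nat.card_pos) (card_sup_dvd n2)
    calc _ ≤ _ := a2
      _ ≤ 3 * (3 * 3 ^ 5) := Nat.mul_le_mul (c3 x hx) (a1.trans (Nat.mul_le_mul (c3 y hy) hc))
      _ = 3 ^ 7 := by norm_num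
  · rw [ri_sup nK]
    exact fun h => hi (h.trans (relIndex_dvd_of_le_left _ (le_sup_right.trans le_sup_right)))

end Cfsg.Agent.DS.Sp.F24S
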